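import Mathlib
import Cfsg.Agent.ChevalleyStructure.NineField
import Cfsg.Agent.H777.Th3.ThNV
import Cfsg.Agent.H802.FusGroup
import Cfsg.Agent.H775.ExtendCore
import Cfsg.Agent.H777.PGrp
import Cfsg.Agent.H759.FusNormal
import Cfsg.Agent.H458.Ab3_mg_m3
import Cfsg.Agent.H405.PSqMin
import Cfsg.Prelude.Def_TwoFusion
import Cfsg.Agent.H759.FusTransportD
import Cfsg.Agent.H376.WordEmb
import Cfsg.Agent.H356.KillPSp_m3
import Cfsg.Agent.H325.RowPSU_m3
import Cfsg.Agent.FastGrp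
import Cfsg.Agent.Prune
set_option linter.all false
prune_inst 0x7f00000000000000000000000000000000000000000000000000000000000000000000000000000000000000000000000000000000000000000000000000000000000000000000000000000000000000003fffffffffffffffffffffffffffbeffbdffffffff
open scoped Cfsg.Agent.FastGrp

-- part: H775/Th/Model
section
/-!
# The action of `SL₂(9)` on `V5` (helper775)

`V5 = F₉² ⊕ F₃` through `th`.
-/

set_option autoImplicit false
set_option linter.unusedSimpArgs false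

namespace Cfsg.Agent.H775.Th

open Cfsg.Agent.H777.Th3 Cfsg.Agent.ChevalleyStructure.NineField

/-- `SL₂(9)` -/
abbrev SL := Matrix.SpecialLinearGroup (Fin 2) F9

/-- vectors -/
abbrev W := F9 × F9 × ZMod 3

/-- elements of the field from coordinates -/
def mk3 (a b : ZMod 3) : F9 := ⟨a, b⟩

/-- first coordinate -/
def re3 (x : F9) : ZMod 3 := x.re

/-- second coordinate -/
def im3 (x : F9) : ZMod 3 := x.im

theorem re3_add (x y : F9) : re3 (x + y) = re3 x + re3 y := rfl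
theorem im3_add (x y : F9) : im3 (x + y) = im3 x + im3 y := rfl

/-- the coordinates of a vector -/
def th (e : V5) : W :=
  (mk3 (e.1 - e.2.1 - e.2.2.2.1) (-e.2.1), mk3 (e.2.2.2.1 + e.2.2.2.2) e.2.2.2.2, e.2.2.1 - e.2.2.2.1 - e.2.2.2.2)

/-- the vector with given coordinates -/
def thi (w : W) : V5 :=
  (re3 w.1 - im3 w.1 + re3 w.2.1 - im3 w.2.1, - im3 w.1, w.2.2 + re3 w.2.1, re3 w.2.1 - im3 w.2.1, im3 w.2.1)

theorem thi_th : ∀ e : V5, thi (th e) = e := by decide +kernel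

theorem th_thi : ∀ w : W, th (thi w) = w := by decide +kernel

theorem thi_add (v w : W) : thi (v + w) = thi v + thi w := by
  simp only [thi, Prod.fst_add, Prod.snd_add, re3_add, im3_add, Prod.mk_add_mk, Prod.mk.injEq]
  refine ⟨?_, ?_, ?_, ?_, ?_⟩
  · ring
  · ring
  · ring
  · ring
  · trivial

theorem th_add (e f : V5) : th (e + f) = th e + th f := by
  rw [← th_thi (th e + th f), thi_add, thi_th, thi_th]

/-- the action of a matrix -/
def mact (M : SL) (w : W) : W :=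
  (M.1 0 0 * w.1 + M.1 0 1 * w.2.1, M.1 1 0 * w.1 + M.1 1 1 * w.2.1, w.2.2)

theorem mact_add (M : SL) (v w : W) : mact M (v + w) = mact M v + mact M w := by
  refine Prod.ext ?_ (Prod.ext ?_ rfl)
  · show M.1 0 0 * (v.1 + w.1) + M.1 0 1 * (v.2.1 + w.2.1) =
      (M.1 0 0 * v.1 + M.1 0 1 * v.2.1) + (M.1 0 0 * w.1 + M.1 0 1 * w.2.1)
    ring
  · show M.1 1 0 * (v.1 + w.1) + M.1 1 1 * (v.2.1 + w.2.1) =
      (M.1 1 0 * v.1 + M.1 1 1 * v.2.1) + (M.1 1 0 * w.1 + M.1 1 1 * w.2.1)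
    ring

theorem mact_mul (M N : SL) (w : W) : mact (M * N) w = mact M (mact N w) := by
  have h : ∀ i j, (M * N).1 i j = M.1 i 0 * N.1 0 j + M.1 i 1 * N.1 1 j := by
    intro i j
    show (M.1 * N.1) i j = _
    rw [Matrix.mul_apply, Fin.sum_univ_two]
  refine Prod.ext ?_ (Prod.ext ?_ rfl)
  · show (M * N).1 0 0 * w.1 + (M * N).1 0 1 * w.2.1 =
      M.1 0 0 * (N.1 0 0 * w.1 + N.1 0 1 * w.2.1) + M.1 0 1 * (N.1 1 0 * w.1 + N.1 1 1 * w.2.1)
    rw [h, h]
    ring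
  · show (M * N).1 1 0 * w.1 + (M * N).1 1 1 * w.2.1 =
      M.1 1 0 * (N.1 0 0 * w.1 + N.1 0 1 * w.2.1) + M.1 1 1 * (N.1 1 0 * w.1 + N.1 1 1 * w.2.1)
    rw [h, h]
    ring

theorem mact_one (w : W) : mact 1 w = w := by
  refine Prod.ext ?_ (Prod.ext ?_ rfl)
  · show (1 : Matrix (Fin 2) (Fin 2) F9) 0 0 * w.1 + (1 : Matrix (Fin 2) (Fin 2) F9) 0 1 * w.2.1 = w.1
    simp
  · show (1 : Matrix (Fin 2) (Fin 2) F9) 1 0 * w.1 + (1 : Matrix (Fin 2) (Fin 2) F9) 1 1 * w.2.1 = w.2.1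
    simp

/-- the action on `V5` -/
def act (M : SL) (e : V5) : V5 := thi (mact M (th e))

theorem act_add (M : SL) (e f : V5) : act M (e + f) = act M e + act M f := by
  unfold act
  rw [th_add, mact_add, thi_add]

theorem act_mul (M N : SL) (e : V5) : act (M * N) e = act M (act N e) := by
  unfold act
  rw [th_thi, mact_mul]

theorem act_one (e : V5) : act 1 e = e := by
  unfold act
  rw [mact_one, thi_th]

theorem act_inv (M : SL) (e : V5) : act M⁻¹ (act M e) = e := by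
  rw [← act_mul, inv_mul_cancel, act_one]

/-- the action is faithful -/
theorem act_inj {M N : SL} (h : ∀ e, act M e = act N e) : M = N := by
  have h1 : ∀ w, mact M w = mact N w := by
    intro w
    have := h (thi w)
    unfold act at this
    rw [th_thi] at this
    rw [← th_thi (mact M w), this, th_thi]
  have h2 := h1 (1, 0, 0)
  have h3 := h1 (0, 1, 0)
  simp only [mact, mul_one, mul_zero, add_zero, zero_add, Prod.mk.injEq] at h2 h3
  apply Subtype.ext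
  refine Matrix.ext fun i j => ?_
  fin_cases i <;> fin_cases j
  · exact h2.1
  · exact h3.1
  · exact h2.2.1
  · exact h3.2.1

/-- unipotent elements -/
def up (β : F9) : SL := ⟨!![1, β; 0, 1], by simp [Matrix.det_fin_two]⟩

/-- the generator of the torus -/
def dl : SL := ⟨!![⟨2, 1⟩, 0; 0, ⟨1, 1⟩], by
  rw [Matrix.det_fin_two]
  show (⟨2, 1⟩ : F9) * ⟨1, 1⟩ - 0 * 0 = 1
  decide +kernel⟩

theorem up_mul (β γ : F9) : up β * up γ = up (β + γ) := by
  apply Subtype.ext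
  show !![1, β; 0, 1] * !![1, γ; 0, 1] = !![1, β + γ; 0, 1]
  refine Matrix.ext fun i j => ?_
  (revert i j; simp only [Matrix.mul_apply, Fin.sum_univ_two, add_comm, _root_.Fin.forall_fin_succ, _root_.Matrix.of_apply, _root_.Matrix.cons_val', _root_.Matrix.cons_val_fin_one, Fin.isValue, _root_.Matrix.cons_val_zero, _root_.Matrix.cons_val_one, _root_.mul_one, _root_.MulZeroClass.mul_zero, _root_.zero_add, _root_.Matrix.cons_val_succ, _root_.forall_const, _root_.true_and, _root_.one_mul, _root_.MulZeroClass.zero_mul, _root_.implies_true, _root_.and_self])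

theorem up_zero : up 0 = 1 := by
  apply Subtype.ext
  show !![1, 0; 0, 1] = (1 : Matrix (Fin 2) (Fin 2) F9)
  refine Matrix.ext fun i j => ?_
  (revert i j; simp only [_root_.Fin.forall_fin_succ, _root_.Matrix.of_apply, _root_.Matrix.cons_val', _root_.Matrix.cons_val_fin_one, Fin.isValue, _root_.Matrix.cons_val_zero, _root_.Matrix.cons_val_succ, _root_.IsEmpty.forall_iff, _root_.and_true, _root_.Matrix.one_apply_eq, Nat.reduceAdd, _root_.Fin.succ_zero_eq_one, _root_.ne_eq, _root_.zero_ne_one, _root_.not_false_eq_true, _root_.Matrix.one_apply_ne, _root_.and_self, _root_.Fin.succ_ne_zero, _root_.true_and])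

theorem dl_pow (n : ℕ) : (dl ^ n).1 = !![(⟨2, 1⟩ : F9) ^ n, 0; 0, (⟨1, 1⟩ : F9) ^ n] := by
  induction n with
  | zero =>
    refine Matrix.ext fun i j => ?_
    (revert i j; simp only [_root_.Fin.forall_fin_succ, _root_.pow_zero, _root_.Matrix.SpecialLinearGroup.coe_one, Fin.isValue, _root_.Matrix.of_apply, _root_.Matrix.cons_val', _root_.Matrix.cons_val_fin_one, _root_.Matrix.cons_val_zero, _root_.Matrix.cons_val_succ, _root_.IsEmpty.forall_iff, _root_.and_true, _root_.Matrix.one_apply_eq, Nat.reduceAdd, _root_.Fin.succ_zero_eq_one, _root_.ne_eq, _root_.zero_ne_one, _root_.not_false_eq_true, _root_.Matrix.one_apply_ne, _root_.and_self, _root_.Fin.succ_ne_zero, _root_.true_and])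
  | succ n ih =>
    rw [pow_succ]
    show (dl ^ n).1 * dl.1 = _
    rw [ih]
    refine Matrix.ext fun i j => ?_
    (revert i j; simp only [Matrix.mul_apply, Fin.sum_univ_two, dl, pow_succ, _root_.Fin.forall_fin_succ, Fin.isValue, _root_.Matrix.of_apply, _root_.Matrix.cons_val', _root_.Matrix.cons_val_fin_one, _root_.Matrix.cons_val_zero, _root_.Matrix.cons_val_one, _root_.MulZeroClass.mul_zero, _root_.add_zero, _root_.Matrix.cons_val_succ, _root_.zero_add, _root_.forall_const, _root_.MulZeroClass.zero_mul, _root_.and_self, _root_.implies_true])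

theorem exists_pow : ∀ a : F9, a ≠ 0 → ∃ n : Fin 8, (⟨2, 1⟩ : F9) ^ n.val = a ∧ (⟨1, 1⟩ : F9) ^ n.val * a = 1 := by
  decide +kernel

/-- upper triangular matrices -/
theorem exists_upper {M : SL} (h : M.1 1 0 = 0) : ∃ (β : F9) (n : ℕ), M = up β * dl ^ n := by
  have hd : M.1 0 0 * M.1 1 1 = 1 := by
    have := M.2
    rw [Matrix.det_fin_two, h, mul_zero, sub_zero] at this
    exact this
  have h0 : M.1 0 0 ≠ 0 := by
    intro h0
    rw [h0, zero_mul] at hd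
    exact zero_ne_one hd
  obtain ⟨n, hn1, hn2⟩ := exists_pow _ h0
  refine ⟨M.1 0 1 * M.1 0 0, n.val, ?_⟩
  have h2 : (⟨1, 1⟩ : F9) ^ n.val = M.1 1 1 := by
    apply mul_left_cancel₀ h0
    rw [hd, mul_comm]
    exact hn2
  apply Subtype.ext
  show M.1 = !![1, M.1 0 1 * M.1 0 0; 0, 1] * (dl ^ n.val).1
  refine Matrix.ext fun i j => ?_
  rw [Matrix.mul_apply, Fin.sum_univ_two, dl_pow, hn1, h2]
  fin_cases i <;> fin_cases j
  · simp
  · simp only [Fin.zero_eta, Fin.isValue, Fin.mk_one, Matrix.of_apply, Matrix.cons_val', Matrix.cons_val_zero,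
      Matrix.cons_val_one, Matrix.cons_val_fin_one, zero_ne_one, if_false, mul_zero, zero_add, if_true, one_ne_zero]
    rw [mul_assoc, hd, mul_one]
  · simp [h]
  · simp

end Cfsg.Agent.H775.Th
end

-- part: H775/Th/ModelB
section
/-!
# The action of `SL₂(9)` on `V5`, more facts (helper775)
-/

set_option autoImplicit false
set_option linter.unusedSimpArgs false

namespace Cfsg.Agent.H775.Th

open Cfsg.Agent.H777.Th3 Cfsg.Agent.ChevalleyStructure.NineField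

/-- the action of `t` -/
def Tt (e : V5) : V5 :=
  (e.1 + 2 * e.2.1 + 2 * e.2.2.2.1 + e.2.2.2.2, 2 * e.1 + e.2.2.2.1, e.2.2.1 + 2 * e.2.2.2.2, e.2.2.2.2,
    e.2.2.2.1 + 2 * e.2.2.2.2)

theorem Tt_add (e f : V5) : Tt (e + f) = Tt e + Tt f := by
  simp only [Tt, Prod.fst_add, Prod.snd_add, Prod.mk_add_mk, Prod.mk.injEq]
  refine ⟨?_, ?_, ?_, ?_, ?_⟩ <;> first | ring | trivial

theorem Tt_eq : ∀ e : V5, Tt e = thi ((⟨2, 1⟩ : F9) * (th e).1, (⟨1, 1⟩ : F9) * (th e).2.1, (th e).2.2) := by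
  decide +kernel

theorem Tt_eq_act (e : V5) : Tt e = act dl e := by
  rw [Tt_eq]
  unfold act mact
  simp [dl]

theorem mvU_eq (f e : V5) : mvU f e = act (up (mk3 f.2.2.2.1 (-f.2.2.2.2))) e := by
  have h : ∀ a b : ZMod 3, ∀ e : V5, e + (T (-e.2.2.2.1) (-e.2.2.2.2) 0 0 (0, 0, 0, a, b) - (0, 0, 0, a, b)) =
      thi ((th e).1 + mk3 a (-b) * (th e).2.1, (th e).2.1, (th e).2.2) := by
    rintro a b ⟨e1, e2, e3, e4, e5⟩
    have h3 : (3 : ZMod 3) = 0 := rfl
    have r1 : ∀ x y u v : ZMod 3, re3 (mk3 x y * mk3 u v) = x * u + 2 * (y * v) := fun _ _ _ _ => rfl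
    have r2 : ∀ x y u v : ZMod 3, im3 (mk3 x y * mk3 u v) = x * v + y * u := fun _ _ _ _ => rfl
    have r5 : ∀ x y : ZMod 3, re3 (mk3 x y) = x := fun _ _ => rfl
    have r6 : ∀ x y : ZMod 3, im3 (mk3 x y) = y := fun _ _ => rfl
    simp only [T, th, thi, r1, r2, re3_add, im3_add, r5, r6, Prod.mk_add_mk, Prod.mk_sub_mk, Prod.mk.injEq]
    refine ⟨?_, ?_, ?_, ?_, ?_⟩
    · linear_combination (-e4 * a - e4 * b) * h3
    · linear_combination (-e4 * b - b * e5) * h3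
    · ring
    · ring
    · ring
  have h2 : T (-e.2.2.2.1) (-e.2.2.2.2) 0 0 f - f =
      T (-e.2.2.2.1) (-e.2.2.2.2) 0 0 (0, 0, 0, f.2.2.2.1, f.2.2.2.2) - (0, 0, 0, f.2.2.2.1, f.2.2.2.2) := by
    have h3 : f = (f.1, f.2.1, f.2.2.1, 0, 0) + (0, 0, 0, f.2.2.2.1, f.2.2.2.2) := by
      obtain ⟨a, b, c, d, e⟩ := f
      simp
    have h4 : T (-e.2.2.2.1) (-e.2.2.2.2) 0 0 (f.1, f.2.1, f.2.2.1, 0, 0) = (f.1, f.2.1, f.2.2.1, 0, 0) := by
      simp [T]
    conv_lhs => rw [h3, T_add, h4]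
    abel
  unfold mvU
  rw [h2, h]
  unfold act mact
  simp [up]

/-- transitivity -/
theorem exists_mact {x x' y' : F9} (hx : x ≠ 0) (h : ¬ (x' = 0 ∧ y' = 0)) :
    ∃ M : SL, mact M (x, 0, 0) = (x', y', 0) := by
  by_cases hx' : x' = 0
  · subst hx'
    have hy : y' ≠ 0 := fun hy => h ⟨rfl, hy⟩
    refine ⟨⟨!![0, -(x * y'⁻¹); y' * x⁻¹, 0], ?_⟩, ?_⟩
    · rw [Matrix.det_fin_two]
      show (0 : F9) * 0 - (-(x * y'⁻¹)) * (y' * x⁻¹) = 1
      field_simp
      ring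
    · unfold mact
      simp [hx]
  · refine ⟨⟨!![x' * x⁻¹, 0; y' * x⁻¹, x * x'⁻¹], ?_⟩, ?_⟩
    · rw [Matrix.det_fin_two]
      show (x' * x⁻¹) * (x * x'⁻¹) - (0 : F9) * (y' * x⁻¹) = 1
      field_simp
      ring
    · unfold mact
      simp [hx]

theorem conj_up (M : SL) (β : F9) : (M * up β * M⁻¹).1 1 0 = -(M.1 1 0 ^ 2 * β) := by
  have h : (M⁻¹).1 = !![M.1 1 1, -M.1 0 1; -M.1 1 0, M.1 0 0] := by
    show Matrix.adjugate M.1 = _
    rw [Matrix.adjugate_fin_two]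
  show (M.1 * !![1, β; 0, 1] * (M⁻¹).1) 1 0 = _
  rw [h]
  simp only [Matrix.mul_apply, Fin.sum_univ_two, _root_.Fin.isValue, _root_.Matrix.mul_apply, _root_.Matrix.of_apply, _root_.Matrix.cons_val', _root_.Matrix.cons_val_fin_one, _root_.Fin.sum_univ_two, _root_.Matrix.cons_val_zero, _root_.Matrix.cons_val_one, _root_.mul_one, _root_.MulZeroClass.mul_zero, _root_.add_zero, _root_.mul_neg]
  ring

theorem card_SL_dvd : Nat.card SL ∣ 5760 := by
  have h1 : Nat.card (Matrix.GeneralLinearGroup (Fin 2) F9) = 5760 := by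
    rw [Matrix.card_GL_field, F9.card_F9, Fin.prod_univ_two]
    norm_num
  rw [← h1]
  exact Subgroup.card_dvd_of_injective (Matrix.SpecialLinearGroup.toGL (n := Fin 2) (R := F9))
    Matrix.SpecialLinearGroup.toGL_injective

/-- the entries of an upper triangular element of 3-power order -/
theorem up_of_pow {M : SL} (h : M.1 1 0 = 0) {k : ℕ} (hk : M ^ 3 ^ k = 1) : ∃ β, M = up β := by
  obtain ⟨β, n, rfl⟩ := exists_upper h
  refine ⟨β, ?_⟩
  have h1 : ∀ m : ℕ, ((up β * dl ^ n) ^ m).1 1 0 = 0 ∧ ((up β * dl ^ n) ^ m).1 1 1 = (⟨1, 1⟩ : F9) ^ (n * m) := by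
    intro m
    induction m with
    | zero => simp only [_root_.pow_zero, _root_.Fin.isValue, _root_.Matrix.SpecialLinearGroup.coe_one, _root_.ne_eq, _root_.one_ne_zero, _root_.not_false_eq_true, _root_.Matrix.one_apply_ne, _root_.Matrix.one_apply_eq, _root_.MulZeroClass.mul_zero, _root_.and_self]
    | succ m ih =>
      have e : ((up β * dl ^ n) ^ (m + 1)).1 = ((up β * dl ^ n) ^ m).1 * (!![1, β; 0, 1] * (dl ^ n).1) := by
        rw [pow_succ]
        rfl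
      rw [e, dl_pow]
      constructor
      · rw [Matrix.mul_apply, Fin.sum_univ_two, ih.1, ih.2]
        simp [Matrix.mul_apply, Fin.sum_univ_two]
      · rw [Matrix.mul_apply, Fin.sum_univ_two, ih.1, ih.2]
        simp only [Matrix.mul_apply, Fin.sum_univ_two, _root_.Fin.isValue, _root_.Matrix.mul_apply, _root_.Matrix.of_apply, _root_.Matrix.cons_val', _root_.Matrix.cons_val_fin_one, _root_.Matrix.cons_val_zero, _root_.Matrix.cons_val_one, _root_.Fin.sum_univ_two, _root_.MulZeroClass.mul_zero, _root_.zero_add, _root_.MulZeroClass.zero_mul, _root_.one_mul]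
        rw [mul_add, pow_add, mul_one]
  have h2 := (h1 (3 ^ k)).2
  rw [hk] at h2
  have h3 : (⟨1, 1⟩ : F9) ^ (n * 3 ^ k) = 1 := h2.symm
  have h4 : orderOf (⟨1, 1⟩ : F9) = 8 := by
    refine orderOf_eq_of_pow_and_pow_div_prime (by norm_num) (by decide +kernel) ?_
    intro p hp hp2
    have : p = 2 := by
      have h5 : p ∣ 2 ^ 3 := by norm_num; exact hp2
      exact (Nat.prime_dvd_prime_iff_eq hp Nat.prime_two).1 (hp.dvd_of_dvd_pow h5)
    subst this
    decide +kernel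
  have h5 : 8 ∣ n := by
    have h6 := orderOf_dvd_of_pow_eq_one h3
    rw [h4] at h6
    exact (Nat.Coprime.pow_right k (by norm_num : Nat.Coprime 8 3)).dvd_of_dvd_mul_right h6
  obtain ⟨j, rfl⟩ := h5
  have h7 : dl ^ 8 = 1 := by
    apply Subtype.ext
    rw [dl_pow]
    have e1 : (⟨2, 1⟩ : F9) ^ 8 = 1 := by decide +kernel
    have e2 : (⟨1, 1⟩ : F9) ^ 8 = 1 := by decide +kernel
    rw [e1, e2]
    refine Matrix.ext fun i j => ?_
    (revert i j; simp only [_root_.Fin.forall_fin_succ, _root_.Matrix.of_apply, _root_.Matrix.cons_val', _root_.Matrix.cons_val_fin_one, _root_.Matrix.SpecialLinearGroup.coe_one, Fin.isValue, _root_.Matrix.cons_val_zero, _root_.Matrix.cons_val_succ, _root_.IsEmpty.forall_iff, _root_.and_true, _root_.Matrix.one_apply_eq, Nat.reduceAdd, _root_.Fin.succ_zero_eq_one, _root_.ne_eq, _root_.zero_ne_one, _root_.not_false_eq_true, _root_.Matrix.one_apply_ne, _root_.and_self, _root_.Fin.succ_ne_zero,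 _root_.true_and])
  rw [pow_mul, h7, one_pow, mul_one]

end Cfsg.Agent.H775.Th
end

-- part: H775/Th/TGrp
section
/-!
# The group `B = Tg ⟨t⟩` (helper775)
-/

set_option autoImplicit false
set_option linter.unusedSimpArgs false

namespace Cfsg.Agent.H775.Th

open Cfsg.Agent.H777.Th3 Dat Cfsg.Agent.ChevalleyStructure.NineField Cfsg.Agent.H802

/-- the relations of `t` -/
structure TRel {G : Type*} [Group G] (D : Dat G) (t : G) : Prop where
  pow8 : t ^ 8 = 1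
  u1 : D.u1 * t = t * D.u1 * D.u2 ^ 2
  u2 : D.u2 * t = t * D.u1 ^ 2
  u3 : D.u3 * t = t * D.u3
  u4 : D.u4 * t = t * D.u3 ^ 2 * D.u5 ^ 2
  u5 : D.u5 * t = t * D.u3 * D.u4
  v1 : D.v1 * t = t * D.u1 ^ 2 * D.u2 * D.v2
  v2 : D.v2 * t = t * D.u1 * D.u3 ^ 2 * D.v1 * D.v2 ^ 2
  r1 : D.r1 * t = t * D.r2 ^ 2 * D.r1 ^ 2 * D.v2 * D.v1 ^ 2 * D.u1 ^ 2 * D.u2 ^ 2 * D.u4 * D.u5
  r2 : D.r2 * t = t * D.r2 ^ 2 * D.r1 * D.v2 ^ 2 * D.v1 ^ 2 * D.u1 ^ 2 * D.u3 ^ 2 * D.u5

variable {G : Type*} [Group G] {D : Dat G} {t : G}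

theorem vv_eq (e : V5) : D.vv e = D.u1 ^ e.1.val * D.u2 ^ e.2.1.val * D.u3 ^ e.2.2.1.val *
    (D.v1 ^ e.2.2.2.1.val * D.v2 ^ e.2.2.2.2.val) := by
  unfold vv vab uu
  simp

theorem TRel.actV (h : TRel D t) : D.ActV t Tt := by
  refine actV_of Tt_add ?_
  have k1 : t⁻¹ * D.u1 * t = D.u1 * D.u2 ^ 2 := conj_eq_of (by rw [h.u1, mul_assoc])
  have k2 : t⁻¹ * D.u2 * t = D.u1 ^ 2 := conj_eq_of h.u2
  have k3 : t⁻¹ * D.u3 * t = D.u3 := conj_eq_of h.u3
  have k4 : t⁻¹ * D.v1 * t = D.u1 ^ 2 * D.u2 * D.v2 := conj_eq_of (by rw [h.v1]; simp only [mul_assoc])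
  have k5 : t⁻¹ * D.v2 * t = D.u1 * D.u3 ^ 2 * (D.v1 * D.v2 ^ 2) := conj_eq_of (by rw [h.v2]; simp only [mul_assoc])
  intro e he
  simp only [List.mem_cons, List.not_mem_nil, or_false] at he
  rcases he with rfl | rfl | rfl | rfl | rfl
  · have e1 : D.vv (1, 0, 0, 0, 0) = D.u1 := by rw [vv_eq]; simp [ZMod.val_one]
    rw [e1, k1, show Tt (1, 0, 0, 0, 0) = (1, 2, 0, 0, 0) by decide, vv_eq]
    simp [ZMod.val_one, val_two]
  · have e1 : D.vv (0, 1, 0, 0, 0) = D.u2 := by rw [vv_eq]; simp [ZMod.val_one]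
    rw [e1, k2, show Tt (0, 1, 0, 0, 0) = (2, 0, 0, 0, 0) by decide, vv_eq]
    simp [ZMod.val_one, val_two]
  · have e1 : D.vv (0, 0, 1, 0, 0) = D.u3 := by rw [vv_eq]; simp [ZMod.val_one]
    rw [e1, k3, show Tt (0, 0, 1, 0, 0) = (0, 0, 1, 0, 0) by decide, vv_eq]
    simp [ZMod.val_one]
  · have e1 : D.vv (0, 0, 0, 1, 0) = D.v1 := by rw [vv_eq]; simp [ZMod.val_one]
    rw [e1, k4, show Tt (0, 0, 0, 1, 0) = (2, 1, 0, 0, 1) by decide, vv_eq]
    simp [ZMod.val_one, val_two]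
  · have e1 : D.vv (0, 0, 0, 0, 1) = D.v2 := by rw [vv_eq]; simp [ZMod.val_one]
    rw [e1, k5, show Tt (0, 0, 0, 0, 1) = (1, 0, 2, 1, 2) by decide, vv_eq]
    simp [ZMod.val_one, val_two]

theorem conj_uu_mem {K : Subgroup G} {s : G} (k1 : s⁻¹ * D.u1 * s ∈ K) (k2 : s⁻¹ * D.u2 * s ∈ K)
    (k3 : s⁻¹ * D.u3 * s ∈ K) (k4 : s⁻¹ * D.u4 * s ∈ K) (k5 : s⁻¹ * D.u5 * s ∈ K) :
    ∀ x ∈ D.U, s⁻¹ * x * s ∈ K := by
  intro x hx
  obtain ⟨e, rfl⟩ := (D.mem_U).1 hx
  have hK : ∀ y z : G, s⁻¹ * y * s ∈ K → s⁻¹ * z * s ∈ K → s⁻¹ * (y * z) * s ∈ K := by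
    intro y z hy hz
    have : s⁻¹ * (y * z) * s = (s⁻¹ * y * s) * (s⁻¹ * z * s) := by group
    rw [this]
    exact K.mul_mem hy hz
  have hP : ∀ (n : ℕ) (y : G), s⁻¹ * y * s ∈ K → s⁻¹ * y ^ n * s ∈ K := by
    intro n y hy
    induction n with
    | zero =>
      have : s⁻¹ * y ^ 0 * s = 1 := by group
      rw [this]; exact K.one_mem
    | succ n ih => rw [pow_succ]; exact hK _ _ ih hy
  unfold uu
  exact hK _ _ (hK _ _ (hK _ _ (hK _ _ (hP _ _ k1) (hP _ _ k2)) (hP _ _ k3)) (hP _ _ k4)) (hP _ _ k5)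

theorem TRel.conj_Tg (h : TRel D t) : ∀ x ∈ D.Tg, t⁻¹ * x * t ∈ D.Tg := by
  have m1 := D.U_le_Tg D.u1_mem
  have m2 := D.U_le_Tg D.u2_mem
  have m3 := D.U_le_Tg D.u3_mem
  have m4 := D.U_le_Tg D.u4_mem
  have m5 := D.U_le_Tg D.u5_mem
  have n1 := D.v1_Tg
  have n2 := D.v2_Tg
  have n3 := D.r1_Tg
  have n4 := D.r2_Tg
  have M : ∀ {x y : G}, x ∈ D.Tg → y ∈ D.Tg → x * y ∈ D.Tg := fun hx hy => D.Tg.mul_mem hx hy
  have P : ∀ {x : G}, x ∈ D.Tg → ∀ n : ℕ, x ^ n ∈ D.Tg := fun hx n => D.Tg.pow_mem hx n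
  have k1 : t⁻¹ * D.u1 * t = D.u1 * D.u2 ^ 2 := conj_eq_of (by rw [h.u1, mul_assoc])
  have k2 : t⁻¹ * D.u2 * t = D.u1 ^ 2 := conj_eq_of h.u2
  have k3 : t⁻¹ * D.u3 * t = D.u3 := conj_eq_of h.u3
  have k4 : t⁻¹ * D.u4 * t = D.u3 ^ 2 * D.u5 ^ 2 := conj_eq_of (by rw [h.u4]; simp only [mul_assoc])
  have k5 : t⁻¹ * D.u5 * t = D.u3 * D.u4 := conj_eq_of (by rw [h.u5]; simp only [mul_assoc])
  have k6 : t⁻¹ * D.v1 * t = D.u1 ^ 2 * D.u2 * D.v2 := conj_eq_of (by rw [h.v1]; simp only [mul_assoc])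
  have k7 : t⁻¹ * D.v2 * t = D.u1 * D.u3 ^ 2 * (D.v1 * D.v2 ^ 2) := conj_eq_of (by rw [h.v2]; simp only [mul_assoc])
  have k8 : t⁻¹ * D.r1 * t = D.r2 ^ 2 * D.r1 ^ 2 * D.v2 * D.v1 ^ 2 * D.u1 ^ 2 * D.u2 ^ 2 * D.u4 * D.u5 :=
    conj_eq_of (by rw [h.r1]; simp only [mul_assoc])
  have k9 : t⁻¹ * D.r2 * t = D.r2 ^ 2 * D.r1 * D.v2 ^ 2 * D.v1 ^ 2 * D.u1 ^ 2 * D.u3 ^ 2 * D.u5 :=
    conj_eq_of (by rw [h.r2]; simp only [mul_assoc])
  refine adj_conj (adj_conj (adj_conj (adj_conj (conj_uu_mem ?_ ?_ ?_ ?_ ?_) ?_) ?_) ?_) ?_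
  · rw [k1]; exact M m1 (P m2 2)
  · rw [k2]; exact P m1 2
  · rw [k3]; exact m3
  · rw [k4]; exact M (P m3 2) (P m5 2)
  · rw [k5]; exact M m3 m4
  · rw [k6]; exact M (M (P m1 2) m2) n2
  · rw [k7]; exact M (M m1 (P m3 2)) (M n1 (P n2 2))
  · rw [k8]; exact M (M (M (M (M (M (M (P n4 2) (P n3 2)) n2) (P n1 2)) (P m1 2)) (P m2 2)) m4) m5
  · rw [k9]; exact M (M (M (M (M (M (P n4 2) n3) (P n2 2)) (P n1 2)) (P m1 2)) (P m3 2)) m5

theorem TRel.conj_pow_Tg (h : TRel D t) (n : ℕ) : ∀ x ∈ D.Tg, (t ^ n)⁻¹ * x * t ^ n ∈ D.Tg := by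
  induction n with
  | zero => intro x hx; rw [pow_zero, inv_one, one_mul, mul_one]; exact hx
  | succ n ih =>
    intro x hx
    have h1 := h.conj_Tg _ (ih x hx)
    have h2 : (t ^ (n + 1))⁻¹ * x * t ^ (n + 1) = t⁻¹ * ((t ^ n)⁻¹ * x * t ^ n) * t := by
      rw [pow_succ]; group
    rw [h2]
    exact h1

theorem TRel.inv_pow (h : TRel D t) (n : ℕ) : (t ^ n)⁻¹ = t ^ (7 * n) := by
  rw [inv_eq_iff_mul_eq_one, ← pow_add, show n + 7 * n = 8 * n by ring, pow_mul, h.pow8, one_pow]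

theorem TRel.conj_pow_Tg' (h : TRel D t) (n : ℕ) : ∀ x ∈ D.Tg, t ^ n * x * (t ^ n)⁻¹ ∈ D.Tg := by
  intro x hx
  have h1 := h.conj_pow_Tg (7 * n) x hx
  rwa [← h.inv_pow, inv_inv] at h1

/-- the group `Tg ⟨t⟩` -/
def TRel.B (h : TRel D t) : Subgroup G where
  carrier := {x | ∃ s ∈ D.Tg, ∃ n : ℕ, x = s * t ^ n}
  one_mem' := ⟨1, D.Tg.one_mem, 0, by simp⟩
  mul_mem' := by
    rintro _ _ ⟨s, hs, n, rfl⟩ ⟨s', hs', n', rfl⟩
    refine ⟨s * (t ^ n * s' * (t ^ n)⁻¹), D.Tg.mul_mem hs (h.conj_pow_Tg' n s' hs'), n + n', ?_⟩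
    rw [pow_add]
    group
  inv_mem' := by
    rintro _ ⟨s, hs, n, rfl⟩
    refine ⟨(t ^ n)⁻¹ * s⁻¹ * t ^ n, h.conj_pow_Tg n _ (D.Tg.inv_mem hs), 7 * n, ?_⟩
    rw [← h.inv_pow]
    group

theorem TRel.Tg_le_B (h : TRel D t) : D.Tg ≤ h.B := fun x hx => ⟨x, hx, 0, by simp⟩

theorem TRel.t_mem_B (h : TRel D t) : t ∈ h.B := ⟨1, D.Tg.one_mem, 1, by simp⟩

/-- `Tg` is normal in `B` -/
theorem TRel.B_conj (h : TRel D t) {b x : G} (hb : b ∈ h.B) (hx : x ∈ D.Tg) : b * x * b⁻¹ ∈ D.Tg := by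
  obtain ⟨s, hs, n, rfl⟩ := hb
  have h1 := D.Tg.mul_mem (D.Tg.mul_mem hs (h.conj_pow_Tg' n x hx)) (D.Tg.inv_mem hs)
  have h2 : s * t ^ n * x * (s * t ^ n)⁻¹ = s * (t ^ n * x * (t ^ n)⁻¹) * s⁻¹ := by group
  rw [h2]
  exact h1

/-- `Tg` is a Sylow 3-subgroup of `B` -/
theorem TRel.sylIn [Finite G] (h : TRel D t) (h1 : D.u1 ≠ 1) : SylIn 3 D.Tg h.B := by
  have : Fact (Nat.Prime 3) := ⟨Nat.prime_three⟩
  have hp : IsPGroup 3 D.Tg := IsPGroup.of_card (card_Tg h1)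
  have hpB : IsPGroup 3 (D.Tg.subgroupOf h.B) := hp.comap_of_injective h.B.subtype h.B.subtype_injective
  obtain ⟨Q, hQ⟩ := hpB.exists_le_sylow
  -- `Q = Tg`
  have h2 : ∀ x : h.B, x ∈ (Q : Subgroup h.B) → (x : G) ∈ D.Tg := by
    rintro ⟨x, s, hs, n, rfl⟩ hx
    have hsQ : (⟨s, h.Tg_le_B hs⟩ : h.B) ∈ (Q : Subgroup h.B) := hQ hs
    have h3 : (⟨t ^ n, h.B.pow_mem h.t_mem_B n⟩ : h.B) ∈ (Q : Subgroup h.B) := by
      have := (Q : Subgroup h.B).mul_mem ((Q : Subgroup h.B).inv_mem hsQ) hx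
      have e : (⟨s, h.Tg_le_B hs⟩ : h.B)⁻¹ * ⟨s * t ^ n, s, hs, n, rfl⟩ = ⟨t ^ n, h.B.pow_mem h.t_mem_B n⟩ := by
        apply Subtype.ext
        show s⁻¹ * (s * t ^ n) = t ^ n
        group
      rwa [e] at this
    obtain ⟨k, hk⟩ := Q.isPGroup' ⟨_, h3⟩
    have h4 : (t ^ n) ^ 3 ^ k = 1 := by
      have := congrArg (fun z : (Q : Subgroup h.B) => ((z : h.B) : G)) hk
      exact this
    have h5 : (t ^ n) ^ 8 = 1 := by rw [← pow_mul, mul_comm, pow_mul, h.pow8, one_pow]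
    have h6 : t ^ n = 1 := by
      have h7 := orderOf_dvd_of_pow_eq_one h4
      have h8 := orderOf_dvd_of_pow_eq_one h5
      have h9 : Nat.Coprime (3 ^ k) 8 := Nat.Coprime.pow_left k (by norm_num)
      exact orderOf_eq_one_iff.1 (Nat.eq_one_of_dvd_coprimes h9 h7 h8)
    show s * t ^ n ∈ D.Tg
    rw [h6, mul_one]
    exact hs
  have h3 : (Q : Subgroup h.B) = D.Tg.subgroupOf h.B := le_antisymm (fun x hx => h2 x hx) hQ
  refine ⟨h.Tg_le_B, ?_⟩
  have h4 := Q.card_eq_multiplicity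
  have h5 : Nat.card Q = Nat.card D.Tg := by
    show Nat.card (Q : Subgroup h.B) = _
    rw [h3, card_subgroupOf_of_le h.Tg_le_B]
  rw [← h5, h4]

end Cfsg.Agent.H775.Th
end

-- part: H775/Th/Borel
section
/-!
# The fusion system of a group with a normal Sylow subgroup (helper775)
-/

set_option autoImplicit false

namespace Cfsg.Agent.H775.Borel

open Cfsg Cfsg.FusionSystem Cfsg.Agent.H802

variable {Ω : Type*} [Group Ω] {B T : Subgroup Ω}

theorem fullyNormalized [Finite Ω] (hTB : T ≤ B) (hn : ∀ b ∈ B, ∀ x ∈ T, b * x * b⁻¹ ∈ T) {E : Subgroup Ω} (hE : E ≤ T) :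
    (fusionSystemOfSubgroup B T hTB).IsFullyNormalized E := by
  refine ⟨hE, ?_⟩
  rintro _ ⟨φ, ⟨-, -, b, hb, hφ⟩, rfl⟩
  have key : ∀ y ∈ normalizerIn T φ.range, b⁻¹ * y * b ∈ normalizerIn T E := by
    rintro y ⟨hyT, hyN⟩
    have hbi := hn b⁻¹ (B.inv_mem hb) y hyT
    rw [inv_inv] at hbi
    refine ⟨hbi, ?_⟩
    have hmem : ∀ z, z ∈ E ↔ b * z * b⁻¹ ∈ φ.range := by
      intro z
      constructor
      · intro hz
        exact ⟨⟨z, hz⟩, hφ ⟨z, hz⟩⟩
      · rintro ⟨w, hw⟩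
        rw [hφ] at hw
        have := mul_left_cancel (mul_right_cancel hw)
        rw [← this]
        exact w.2
    refine Subgroup.mem_normalizer_iff.2 fun z => ?_
    rw [hmem, hmem]
    have h2 := Subgroup.mem_normalizer_iff.1 hyN (b * z * b⁻¹)
    have h3 : y * (b * z * b⁻¹) * y⁻¹ = b * (b⁻¹ * y * b * z * (b⁻¹ * y * b)⁻¹) * b⁻¹ := by group
    rw [h2, h3]
  refine Nat.card_le_card_of_injective (fun y : normalizerIn T φ.range => (⟨b⁻¹ * y * b, key y y.2⟩ : normalizerIn T E)) ?_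
  intro x y hxy
  have h2 : b⁻¹ * (x : Ω) * b = b⁻¹ * y * b := congrArg Subtype.val hxy
  exact Subtype.ext (mul_left_cancel (mul_right_cancel h2))

theorem centric (hTB : T ≤ B) (hn : ∀ b ∈ B, ∀ x ∈ T, b * x * b⁻¹ ∈ T) {E : Subgroup Ω} (hE : E ≤ T)
    (hC : ∀ x ∈ T, (∀ y ∈ E, y * x = x * y) → x ∈ E) :
    (fusionSystemOfSubgroup B T hTB).IsCentric E := by
  refine ⟨hE, ?_⟩
  rintro _ ⟨φ, ⟨-, -, b, hb, hφ⟩, rfl⟩ x ⟨hxT, hxC⟩
  have hbi := hn b⁻¹ (B.inv_mem hb) x hxT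
  rw [inv_inv] at hbi
  have h1 : b⁻¹ * x * b ∈ E := by
    refine hC _ hbi (fun y hy => ?_)
    have h2 := Subgroup.mem_centralizer_iff.1 hxC (φ ⟨y, hy⟩) ⟨_, rfl⟩
    rw [hφ] at h2
    have h3 : y * (b⁻¹ * x * b) = b⁻¹ * (b * y * b⁻¹ * x) * b := by group
    rw [h3, h2]
    group
  refine ⟨⟨_, h1⟩, ?_⟩
  rw [hφ]
  show b * (b⁻¹ * x * b) * b⁻¹ = x
  group

theorem not_centric {F : FusionSystem T} {E P : Subgroup Ω} (hE : E ≤ T) (hab : ∀ x ∈ E, ∀ y ∈ E, x * y = y * x)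
    (hP : P < E) : ¬ F.IsCentric P := by
  intro h
  have h1 : E ≤ P := by
    intro x hx
    refine h.2 P ?_ ⟨hE hx, ?_⟩
    · exact ⟨P.subtype, subtype_mem F h.1, Subgroup.range_subtype P⟩
    · refine Subgroup.mem_centralizer_iff.2 fun y hy => ?_
      exact hab y (hP.le hy) x hx
  exact hP.not_ge h1

end Cfsg.Agent.H775.Borel
end

-- part: H775/Th/Phi
section
/-!
# The saturated fusion system over `Tg` (helper775)
-/

set_option autoImplicit false
set_option linter.unusedSimpArgs false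

namespace Cfsg.Agent.H775.Th

open Cfsg Cfsg.FusionSystem Cfsg.Agent.H777.Th3 Dat Cfsg.Agent.ChevalleyStructure.NineField Cfsg.Agent.H802

variable {G : Type*} [Group G] {D : Dat G} {t : G}

/-- `SL₂(9)` acting on the vectors -/
def actE (M : SL) : Multiplicative V5 ≃* Multiplicative V5 where
  toFun e := Multiplicative.ofAdd (act M e.toAdd)
  invFun e := Multiplicative.ofAdd (act M⁻¹ e.toAdd)
  left_inv e := congrArg Multiplicative.ofAdd (act_inv M _)
  right_inv e := by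
    show Multiplicative.ofAdd (act M (act M⁻¹ e.toAdd)) = e
    rw [← act_mul, mul_inv_cancel, act_one]
    rfl
  map_mul' x y := congrArg Multiplicative.ofAdd (act_add M _ _)

/-- the elements of `V` -/
noncomputable def vvE (h1 : D.u1 ≠ 1) : Multiplicative V5 ≃* D.Vs :=
  MonoidHom.ofInjective (f := D.vvHom) (fun _ _ hab => congrArg Multiplicative.ofAdd (vv_injective h1 hab))

/-- `SL₂(9)` acting on `V` -/
noncomputable def Phi (h1 : D.u1 ≠ 1) : SL →* MulAut D.Vs where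
  toFun M := ((vvE h1).symm.trans (actE M)).trans (vvE h1)
  map_one' := by
    apply MulEquiv.ext
    intro x
    obtain ⟨e, rfl⟩ := (vvE h1).surjective x
    show vvE h1 (actE 1 ((vvE h1).symm (vvE h1 e))) = vvE h1 e
    rw [MulEquiv.symm_apply_apply]
    exact congrArg (vvE h1) (congrArg Multiplicative.ofAdd (act_one _))
  map_mul' M N := by
    apply MulEquiv.ext
    intro x
    obtain ⟨e, rfl⟩ := (vvE h1).surjective x
    show vvE h1 (actE (M * N) ((vvE h1).symm (vvE h1 e))) =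
      vvE h1 (actE M ((vvE h1).symm (vvE h1 (actE N ((vvE h1).symm (vvE h1 e))))))
    rw [MulEquiv.symm_apply_apply, MulEquiv.symm_apply_apply]
    exact congrArg (vvE h1) (congrArg Multiplicative.ofAdd (act_mul _ _ _))

theorem Phi_vvE (h1 : D.u1 ≠ 1) (M : SL) (e : Multiplicative V5) : Phi h1 M (vvE h1 e) = vvE h1 (actE M e) := by
  show vvE h1 (actE M ((vvE h1).symm (vvE h1 e))) = _
  rw [MulEquiv.symm_apply_apply]

theorem Phi_apply (h1 : D.u1 ≠ 1) (M : SL) (e : V5) :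
    ((Phi h1 M ⟨D.vv e, D.vv_mem e⟩ : D.Vs) : G) = D.vv (act M e) := by
  have h : (⟨D.vv e, D.vv_mem e⟩ : D.Vs) = vvE h1 (Multiplicative.ofAdd e) := rfl
  rw [h, Phi_vvE]
  rfl

theorem Phi_injective (h1 : D.u1 ≠ 1) : Function.Injective (Phi (D := D) h1) := by
  intro M N hMN
  apply act_inj
  intro e
  apply vv_injective h1
  rw [← Phi_apply h1, ← Phi_apply h1, hMN]

/-- equality with a conjugation -/
theorem Phi_eq_iff (h1 : D.u1 ≠ 1) {α : MulAut D.Vs} {M : SL} {b : G} (hα : ∀ x : D.Vs, ((α x : D.Vs) : G) = b * x * b⁻¹) :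
    α = Phi h1 M ↔ ∀ e, b * D.vv e * b⁻¹ = D.vv (act M e) := by
  constructor
  · rintro rfl e
    rw [← Phi_apply h1, hα]
  · intro h
    apply MulEquiv.ext
    intro x
    obtain ⟨x, hx⟩ := x
    obtain ⟨e, rfl⟩ := (D.mem_Vs).1 hx
    apply Subtype.ext
    rw [hα, Phi_apply h1]
    exact h e

theorem vab_comm_vv (m : F2) (e : V5) : D.vab m * D.vv e = D.vv e * D.vab m := by
  have : D.vab m = D.vv (0, 0, 0, m.1, m.2) := by
    unfold vv
    have h0 : ((0, 0, 0, 0, 0) : V5) = 0 := rfl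
    show D.vab m = D.uu (0, 0, 0, 0, 0) * D.vab m
    rw [h0, uu_zero, one_mul]
  rw [this]
  exact Vs_comm (D.vv_mem _) (D.vv_mem _)

/-- the elements of `N` act as unipotent elements -/
theorem N_act {n : G} (hn : n ∈ D.N) : ∃ β, ∀ e, n⁻¹ * D.vv e * n = D.vv (act (up β) e) := by
  obtain ⟨f, a, b, rfl⟩ := (D.mem_N).1 hn
  refine ⟨mk3 f.2.2.2.1 (-f.2.2.2.2), fun e => ?_⟩
  rw [← mvU_eq]
  have h1 := actV_uu (D := D) f e
  have h2 := vab_comm_vv (D := D) (a, b) (mvU f e)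
  have h3 : D.vab (a, b) = D.v1 ^ a.val * D.v2 ^ b.val := rfl
  rw [← h3]
  calc (D.uu f * D.vab (a, b))⁻¹ * D.vv e * (D.uu f * D.vab (a, b))
      = (D.vab (a, b))⁻¹ * ((D.uu f)⁻¹ * D.vv e * D.uu f) * D.vab (a, b) := by group
    _ = (D.vab (a, b))⁻¹ * (D.vv (mvU f e) * D.vab (a, b)) := by rw [h1]; group
    _ = _ := by rw [← h2]; group

theorem N_act' {n : G} (hn : n ∈ D.N) : ∃ β, ∀ e, n * D.vv e * n⁻¹ = D.vv (act (up β) e) := by
  obtain ⟨β, h⟩ := N_act (D.N.inv_mem hn)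
  refine ⟨β, fun e => ?_⟩
  rw [← h, inv_inv]

theorem TRel.t_act (h : TRel D t) (e : V5) : t⁻¹ * D.vv e * t = D.vv (act dl e) := by
  rw [← Tt_eq_act]
  exact h.actV e

theorem TRel.tpow_act (h : TRel D t) (n : ℕ) (e : V5) : (t ^ n)⁻¹ * D.vv e * t ^ n = D.vv (act (dl ^ n) e) := by
  induction n generalizing e with
  | zero => rw [pow_zero, pow_zero, act_one]; group
  | succ n ih =>
    have e1 : (t ^ (n + 1))⁻¹ * D.vv e * t ^ (n + 1) = (t ^ n)⁻¹ * (t⁻¹ * D.vv e * t) * t ^ n := by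
      rw [pow_succ']; group
    rw [e1, h.t_act, ih, pow_succ, act_mul]

theorem TRel.tpow_act' (h : TRel D t) (n : ℕ) (e : V5) : t ^ n * D.vv e * (t ^ n)⁻¹ = D.vv (act (dl ^ (7 * n)) e) := by
  rw [← h.tpow_act, ← h.inv_pow, inv_inv]

/-- **the elements of `B` normalizing `V` act as upper triangular matrices** -/
theorem TRel.norm_act (h : TRel D t) (h1 : D.u1 ≠ 1) {b : G} (hb : b ∈ h.B) (hn : ∀ x ∈ D.Vs, b * x * b⁻¹ ∈ D.Vs) :
    ∃ M : SL, M.1 1 0 = 0 ∧ ∀ e, b * D.vv e * b⁻¹ = D.vv (act M e) := by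
  obtain ⟨s, hs, n, rfl⟩ := hb
  have hsn : ∀ x ∈ D.Vs, s * x * s⁻¹ ∈ D.Vs := by
    intro x hx
    obtain ⟨e, rfl⟩ := (D.mem_Vs).1 hx
    have h2 := hn _ (D.vv_mem (act (dl ^ n) e))
    rw [← h.tpow_act] at h2
    have h3 : s * t ^ n * ((t ^ n)⁻¹ * D.vv e * t ^ n) * (s * t ^ n)⁻¹ = s * D.vv e * s⁻¹ := by group
    rwa [h3] at h2
  have hsN : s ∈ D.N := by
    have h2 : s⁻¹ ∈ D.N := mem_N_of_norm h1 (D.Tg_le_Sg (D.Tg.inv_mem hs)) (by
      intro y hy
      rw [inv_inv]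
      exact hsn y hy)
    have := D.N.inv_mem h2
    rwa [inv_inv] at this
  obtain ⟨β, hβ⟩ := N_act' hsN
  refine ⟨up β * dl ^ (7 * n), ?_, fun e => ?_⟩
  · show ((!![1, β; 0, 1] : Matrix (Fin 2) (Fin 2) F9) * (dl ^ (7 * n)).1) 1 0 = 0
    rw [dl_pow]
    simp [Matrix.mul_apply, Fin.sum_univ_two]
  · have h2 : s * t ^ n * D.vv e * (s * t ^ n)⁻¹ = s * (t ^ n * D.vv e * (t ^ n)⁻¹) * s⁻¹ := by group
    rw [h2, h.tpow_act', hβ, act_mul]

/-- every upper triangular matrix is induced by an element of `B` -/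
theorem TRel.exists_norm (h : TRel D t) {M : SL} (hM : M.1 1 0 = 0) :
    ∃ b ∈ h.B, ∀ e, b * D.vv e * b⁻¹ = D.vv (act M e) := by
  obtain ⟨β, n, rfl⟩ := exists_upper hM
  refine ⟨(D.uu (0, 0, 0, re3 β, -im3 β))⁻¹ * t ^ (7 * n), ?_, fun e => ?_⟩
  · exact ⟨_, D.Tg.inv_mem (D.U_le_Tg (D.uu_mem _)), _, rfl⟩
  · have h2 : (D.uu (0, 0, 0, re3 β, -im3 β))⁻¹ * t ^ (7 * n) * D.vv e *
        ((D.uu (0, 0, 0, re3 β, -im3 β))⁻¹ * t ^ (7 * n))⁻¹ =
        (D.uu (0, 0, 0, re3 β, -im3 β))⁻¹ * (t ^ (7 * n) * D.vv e * (t ^ (7 * n))⁻¹) *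
          D.uu (0, 0, 0, re3 β, -im3 β) := by group
    have h3 : dl ^ (7 * (7 * n)) = dl ^ n := by
      have h7 : dl ^ 8 = 1 := by
        apply Subtype.ext
        rw [dl_pow]
        have e1 : (⟨2, 1⟩ : F9) ^ 8 = 1 := by decide +kernel
        have e2 : (⟨1, 1⟩ : F9) ^ 8 = 1 := by decide +kernel
        rw [e1, e2]
        refine Matrix.ext fun i j => ?_
        (revert i j; simp only [_root_.Fin.forall_fin_succ, _root_.Matrix.of_apply, _root_.Matrix.cons_val', _root_.Matrix.cons_val_fin_one, _root_.Matrix.SpecialLinearGroup.coe_one, Fin.isValue, _root_.Matrix.cons_val_zero, _root_.Matrix.cons_val_succ, _root_.IsEmpty.forall_iff, _root_.and_true, _root_.Matrix.one_apply_eq, Nat.reduceAdd, _root_.Fin.succ_zero_eq_one, _root_.ne_eq, _root_.zero_ne_one, _root_.not_false_eq_true, _root_.Matrix.one_apply_ne, _root_.and_self, _root_.Fin.succ_ne_zero, _root_.true_and])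
      have : 7 * (7 * n) = 8 * (6 * n) + n := by ring
      rw [this, pow_add, pow_mul, h7, one_pow, one_mul]
    rw [h2, h.tpow_act', h3, actV_uu (D := D), mvU_eq]
    have h4 : mk3 (re3 β) (-(-im3 β)) = β := by
      rw [neg_neg]
      rfl
    show D.vv (act (up (mk3 (re3 β) (-(-im3 β)))) (act (dl ^ n) e)) = _
    rw [h4, act_mul]

end Cfsg.Agent.H775.Th
end

-- part: H775/Th/Sat
section
/-!
# The saturated fusion system over `Tg` (helper775)
-/

set_option autoImplicit false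
set_option linter.unusedSimpArgs false

namespace Cfsg.Agent.H775.Th

open Cfsg Cfsg.FusionSystem Cfsg.Agent.H777.Th3 Dat Cfsg.Agent.ChevalleyStructure.NineField Cfsg.Agent.H802
open Cfsg.Agent.H775

variable {G : Type*} [Group G] {D : Dat G} {t : G}

/-- the fusion system of `B` -/
def TRel.F0 (h : TRel D t) : FusionSystem D.Tg := fusionSystemOfSubgroup h.B D.Tg h.Tg_le_B

theorem Vs_le_Tg : D.Vs ≤ D.Tg := Vs_le_N.trans D.N_le_Tg

/-- the automorphisms of `V` in `F0` -/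
theorem TRel.mem_aut0 (h : TRel D t) {α : MulAut D.Vs} :
    α ∈ h.F0.autGroup D.Vs ↔ ∃ b ∈ h.B, ∀ x : D.Vs, ((α x : D.Vs) : G) = b * x * b⁻¹ := by
  unfold TRel.F0
  rw [fs_autGroup h.Tg_le_B Vs_le_Tg, mem_autInducedBy_iff]

theorem TRel.mem_aut0_iff (h : TRel D t) (h1 : D.u1 ≠ 1) {α : MulAut D.Vs} :
    α ∈ h.F0.autGroup D.Vs ↔ ∃ M : SL, M.1 1 0 = 0 ∧ α = Phi h1 M := by
  rw [h.mem_aut0]
  constructor
  · rintro ⟨b, hb, hα⟩
    obtain ⟨M, hM, he⟩ := h.norm_act h1 hb (fun x hx => by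
      rw [← hα ⟨x, hx⟩]
      exact (α _).2)
    exact ⟨M, hM, (Phi_eq_iff h1 hα).2 he⟩
  · rintro ⟨M, hM, rfl⟩
    obtain ⟨b, hb, he⟩ := h.exists_norm hM
    refine ⟨b, hb, ?_⟩
    rintro ⟨x, hx⟩
    obtain ⟨e, rfl⟩ := (D.mem_Vs).1 hx
    rw [Phi_apply]
    exact (he e).symm

theorem TRel.aut0_le (h : TRel D t) (h1 : D.u1 ≠ 1) : h.F0.autGroup D.Vs ≤ (Phi (D := D) h1).range := by
  intro α hα
  obtain ⟨M, -, rfl⟩ := (h.mem_aut0_iff h1).1 hα
  exact ⟨M, rfl⟩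

/-- the unipotent matrices -/
def upH : Multiplicative F9 →* SL where
  toFun β := up β.toAdd
  map_one' := up_zero
  map_mul' _ _ := (up_mul _ _).symm

theorem upH_injective : Function.Injective upH := by
  intro x y hxy
  have h : (up x.toAdd).1 0 1 = (up y.toAdd).1 0 1 := congrArg (fun M : SL => M.1 0 1) hxy
  exact h

theorem TRel.nine_dvd (h : TRel D t) (h1 : D.u1 ≠ 1) : 9 ∣ Nat.card (h.F0.autGroup D.Vs) := by
  have h2 : Nat.card (upH.range.map (Phi (D := D) h1)) = 9 := by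
    rw [← Nat.card_congr (upH.range.equivMapOfInjective _ (Phi_injective h1)).toEquiv,
      ← Nat.card_congr (MonoidHom.ofInjective upH_injective).toEquiv]
    show Nat.card F9 = 9
    rw [Nat.card_eq_fintype_card, F9.card_F9]
  have h3 : upH.range.map (Phi (D := D) h1) ≤ h.F0.autGroup D.Vs := by
    rintro _ ⟨_, ⟨β, rfl⟩, rfl⟩
    exact (h.mem_aut0_iff h1).2 ⟨_, rfl, rfl⟩
  have h4 := Subgroup.card_dvd_of_le h3
  rwa [h2] at h4

theorem relIndex_mul_card' {H K : Subgroup G} (hHK : H ≤ K) : H.relIndex K * Nat.card H = Nat.card K := by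
  have h3 := Subgroup.card_mul_index (H.subgroupOf K)
  rw [Nat.card_congr (Subgroup.subgroupOfEquivOfLe hHK).toEquiv] at h3
  rw [mul_comm]
  exact h3

theorem TRel.not_dvd (h : TRel D t) (h1 : D.u1 ≠ 1) :
    ¬ 3 ∣ (h.F0.autGroup D.Vs).relIndex (Phi (D := D) h1).range := by
  intro h3
  have h4 := relIndex_mul_card' (h.aut0_le h1)
  have h5 : Nat.card (Phi (D := D) h1).range = Nat.card SL :=
    (Nat.card_congr (MonoidHom.ofInjective (Phi_injective h1)).toEquiv).symm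
  have h6 : 3 * 9 ∣ 5760 := by
    have h7 := Nat.mul_dvd_mul h3 (h.nine_dvd h1)
    rw [h4, h5] at h7
    exact h7.trans card_SL_dvd
  norm_num at h6

theorem TRel.strong (h : TRel D t) (h1 : D.u1 ≠ 1) :
    ∀ δ ∈ (Phi (D := D) h1).range, δ ∉ h.F0.autGroup D.Vs → ∀ α ∈ h.F0.autGroup D.Vs,
      δ * α * δ⁻¹ ∈ h.F0.autGroup D.Vs → (∃ k : ℕ, α ^ 3 ^ k = 1) → α = 1 := by
  rintro _ ⟨M, rfl⟩ hM α hα hc ⟨k, hk⟩
  obtain ⟨A, hA, rfl⟩ := (h.mem_aut0_iff h1).1 hα
  have hAk : A ^ 3 ^ k = 1 := Phi_injective h1 (by rw [map_pow, hk, map_one])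
  obtain ⟨β, rfl⟩ := up_of_pow hA hAk
  rw [← map_mul, ← map_inv, ← map_mul] at hc
  obtain ⟨C, hC, hCe⟩ := (h.mem_aut0_iff h1).1 hc
  have h2 := Phi_injective h1 hCe
  rw [← h2, conj_up, neg_eq_zero, mul_eq_zero] at hC
  rcases hC with hC | hC
  · exact absurd ((h.mem_aut0_iff h1).2 ⟨M, pow_eq_zero_iff (two_ne_zero) |>.1 hC, rfl⟩) hM
  · rw [hC, up_zero, map_one]

theorem Vs_centric (h1 : D.u1 ≠ 1) {x : G} (hx : x ∈ D.Tg) (hc : ∀ y ∈ D.Vs, y * x = x * y) : x ∈ D.Vs := by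
  have hN : x ∈ D.N := mem_N_of_norm h1 (D.Tg_le_Sg hx) (fun y hy => by
    rw [mul_assoc, hc y hy]
    simpa using hy)
  exact mem_Vs_of_comm h1 v1_Vs (v1_not h1) hN (hc _ v1_Vs)

/-- the system -/
noncomputable def TRel.F [Finite G] (h : TRel D t) (h1 : D.u1 ≠ 1) : FusionSystem D.Tg :=
  Ext.ext h.F0 Vs_le_Tg (Phi (D := D) h1).range

theorem TRel.F_sat [Finite G] (h : TRel D t) (h1 : D.u1 ≠ 1) : (h.F h1).IsSaturated 3 := by
  have : Fact (Nat.Prime 3) := ⟨Nat.prime_three⟩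
  have hn : ∀ b ∈ h.B, ∀ x ∈ D.Tg, b * x * b⁻¹ ∈ D.Tg := fun b hb x hx => h.B_conj hb hx
  exact Ext.ext_isSaturated (IsPGroup.of_card (card_Tg h1)) (fs_isSaturated (h.sylIn h1))
    (Borel.fullyNormalized h.Tg_le_B hn Vs_le_Tg)
    (Borel.centric h.Tg_le_B hn Vs_le_Tg (fun x hx hc => Vs_centric h1 hx hc))
    (fun P hP => Borel.not_centric Vs_le_Tg (fun x hx y hy => Vs_comm hx hy) hP)
    (h.aut0_le h1) (h.not_dvd h1) (h.strong h1)

end Cfsg.Agent.H775.Th
end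

-- part: H775/Th/Closed
section
/-!
# The strongly closed subgroups of the system over `Tg` (helper775)
-/

set_option autoImplicit false
set_option linter.unusedSimpArgs false

namespace Cfsg.Agent.H775.Th

open Cfsg Cfsg.FusionSystem Cfsg.Agent.H777.Th3 Dat Cfsg.Agent.ChevalleyStructure.NineField Cfsg.Agent.H802
open Cfsg.Agent.H775

variable {G : Type*} [Group G] {D : Dat G} {t : G}

theorem fix_l' : ∀ e : V5, (T 1 0 0 0 e = e ∧ T 0 0 1 0 e = e ∧ T 0 0 0 1 e = e) → e.2.2 = (0, 0, 0) := by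
  decide +kernel

theorem fix_l (e : V5) (h1 : T 1 0 0 0 e = e) (h2 : T 0 0 1 0 e = e) (h3 : T 0 0 0 1 e = e) : e.2.2 = 0 :=
  fix_l' e ⟨h1, h2, h3⟩

theorem thi_zero : thi 0 = 0 := by decide
theorem thi_zero' : thi (0, 0, 0) = 0 := by decide

theorem dz1 : ((1, 0, 0, 0, 0) : V5).2.2.1 - ((1, 0, 0, 0, 0) : V5).2.2.2.1 - ((1, 0, 0, 0, 0) : V5).2.2.2.2 = 0 := by decide
theorem dz2 : ((0, 1, 0, 0, 0) : V5).2.2.1 - ((0, 1, 0, 0, 0) : V5).2.2.2.1 - ((0, 1, 0, 0, 0) : V5).2.2.2.2 = 0 := by decide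
theorem dz3 : ((0, 0, 1, 1, 0) : V5).2.2.1 - ((0, 0, 1, 1, 0) : V5).2.2.2.1 - ((0, 0, 1, 1, 0) : V5).2.2.2.2 = 0 := by decide
theorem dz4 : ((0, 0, 1, 0, 1) : V5).2.2.1 - ((0, 0, 1, 0, 1) : V5).2.2.2.1 - ((0, 0, 1, 0, 1) : V5).2.2.2.2 = 0 := by decide

theorem dec_all : ∀ f : V5, ∃ i j k l m : ZMod 3, f = i.val • ((1, 0, 0, 0, 0) : V5) + j.val • ((0, 1, 0, 0, 0) : V5) +
    k.val • (T 0 0 1 0 (0, 0, 1, 0, 0) + (2, 0, 2, 1, 0) + -(0, 0, 1, 0, 0)) +
    l.val • (T 0 0 0 1 (0, 0, 1, 0, 0) + (2, 2, 2, 0, 2) + -(0, 0, 1, 0, 0)) +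
    m.val • (T 0 0 1 0 (0, 0, 1, 0, 0) + (1, 2, 0, 1, 2) + -(0, 0, 1, 0, 0)) := by
  rintro ⟨a, b, c, d, e⟩
  have h3 : (3 : ZMod 3) = 0 := rfl
  have hs : ∀ (i : ZMod 3) (v : V5), i.val • v = i • v := fun i v => by
    rw [← Nat.cast_smul_eq_nsmul (ZMod 3), ZMod.natCast_zmod_val]
  have e3 : (T 0 0 1 0 (0, 0, 1, 0, 0) + (2, 0, 2, 1, 0) + -(0, 0, 1, 0, 0) : V5) = (1, 0, 2, 1, 0) := by
    decide +kernel
  have e4 : (T 0 0 0 1 (0, 0, 1, 0, 0) + (2, 2, 2, 0, 2) + -(0, 0, 1, 0, 0) : V5) = (1, 1, 2, 0, 2) := by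
    decide +kernel
  have e5 : (T 0 0 1 0 (0, 0, 1, 0, 0) + (1, 2, 0, 1, 2) + -(0, 0, 1, 0, 0) : V5) = (0, 2, 0, 1, 2) := by
    decide +kernel
  refine ⟨a + c, b + c + d, c - d - e, c + d + e, e - c - d, ?_⟩
  simp only [hs, e3, e4, e5, Prod.smul_mk, Prod.mk_add_mk, smul_eq_mul, Prod.mk.injEq]
  refine ⟨?_, ?_, ?_, ?_, ?_⟩
  · linear_combination (-c) * h3
  · linear_combination (-e) * h3
  · linear_combination (-c) * h3
  · linear_combination d * h3
  · linear_combination (-e) * h3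

/-- the centre of `Tg` -/
theorem center_Tg (h1 : D.u1 ≠ 1) {x : G} (hx : x ∈ D.Tg) (hc : ∀ s ∈ D.Tg, x * s = s * x) :
    ∃ e : V5, e.2.2 = 0 ∧ x = D.uu e := by
  have hU : x ∈ D.U := mem_U_of_act h1 (D.Tg_le_Sg hx) (act_of_comm (fun y hy => (hc y (D.U_le_Tg hy)).symm))
  obtain ⟨e, rfl⟩ := (D.mem_U).1 hU
  have key : ∀ {s : G} {f : V5 → V5}, s ∈ D.Tg → D.Act s f → f e = e := by
    intro s f hs hf
    apply uu_injective h1
    rw [← hf e, mul_assoc, hc s hs, inv_mul_cancel_left]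
  exact ⟨e, fix_l e (key D.v1_Tg D.act_v1) (key D.r1_Tg D.act_r1) (key D.r2_Tg D.act_r2), rfl⟩

/-- **the strongly closed subgroups contain `N`** -/
theorem TRel.N_le (h : TRel D t) (h1 : D.u1 ≠ 1) {A : Subgroup G} (hA : (Ext.ext h.F0 Vs_le_Tg (Phi (D := D) h1).range).StronglyClosed A)
    (hne : A ≠ ⊥) : D.N ≤ A := by
  have : Fact (Nat.Prime 3) := ⟨Nat.prime_three⟩
  have hfin : Finite D.Tg := Nat.finite_of_card_ne_zero (by rw [card_Tg h1]; norm_num)
  -- `A` is normalized by `Tg`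
  have hcj : ∀ s ∈ D.Tg, ∀ a ∈ A, s * a * s⁻¹ ∈ A := by
    intro s hs a ha
    exact hA.2 A le_rfl _ ((Ext.ext h.F0 Vs_le_Tg (Phi (D := D) h1).range).conj_mem hA.1 hs) ⟨a, ha⟩
  have hcj' : ∀ s ∈ D.Tg, ∀ a ∈ A, s⁻¹ * a * s ∈ A := by
    intro s hs a ha
    have := hcj s⁻¹ (D.Tg.inv_mem hs) a ha
    rwa [inv_inv] at this
  -- a central element
  obtain ⟨a, haA, ha1, hac⟩ : ∃ a ∈ A, a ≠ 1 ∧ ∀ s ∈ D.Tg, a * s = s * a := by
    have hn : (A.subgroupOf D.Tg).Normal := ⟨fun a ha s => hcj s s.2 a ha⟩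
    have hb : A.subgroupOf D.Tg ≠ ⊥ := by
      intro h
      apply hne
      rw [Subgroup.subgroupOf_eq_bot] at h
      exact le_bot_iff.1 (fun x hx => h.le_bot ⟨hx, hA.1 hx⟩)
    obtain ⟨b, hb, hb1, hbc⟩ := Cfsg.Agent.H777.PGrp.inf_center_ne_bot (IsPGroup.of_card (card_Tg h1)) hb hn
    refine ⟨b, hb, fun h => hb1 (Subtype.ext h), fun s hs => ?_⟩
    exact (congrArg Subtype.val (hbc ⟨s, hs⟩)).symm
  obtain ⟨e, he, rfl⟩ := center_Tg h1 (hA.1 haA) hac
  -- the automorphisms in `Δ`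
  have hact : ∀ (M : SL) (f : V5), D.vv f ∈ A → D.vv (act M f) ∈ A := by
    intro M f hf
    have h2 : Phi h1 M ∈ (Phi (D := D) h1).range := ⟨M, rfl⟩
    have h3 := Ext.delta_mem_ext (F₀ := h.F0) Vs_le_Tg h2
    have h4 := hA.2 (A ⊓ D.Vs) inf_le_left _ (restrict_mem h3 inf_le_right) ⟨D.vv f, hf, D.vv_mem f⟩
    rw [← Phi_apply h1]
    exact h4
  have hev : D.vv e ∈ A := by
    rw [vv_W e (by rw [he]; rfl)]
    exact haA
  have he0 : (th e).1 ≠ 0 := by
    intro h0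
    have h2 : th e = 0 := by
      refine Prod.ext h0 (Prod.ext ?_ ?_)
      · show mk3 (e.2.2.2.1 + e.2.2.2.2) e.2.2.2.2 = 0
        rw [he]; rfl
      · show e.2.2.1 - e.2.2.2.1 - e.2.2.2.2 = 0
        rw [he]; rfl
    have h3 : e = 0 := by
      rw [← thi_th e, h2, thi_zero]
    rw [h3, uu_zero] at ha1
    exact ha1 rfl
  have hth : th e = ((th e).1, 0, 0) := by
    refine Prod.ext rfl (Prod.ext ?_ ?_)
    · show mk3 (e.2.2.2.1 + e.2.2.2.2) e.2.2.2.2 = 0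
      rw [he]; rfl
    · show e.2.2.1 - e.2.2.2.1 - e.2.2.2.2 = 0
      rw [he]; rfl
  have hV4 : ∀ x' y' : F9, D.vv (thi (x', y', 0)) ∈ A := by
    intro x' y'
    by_cases hxy : x' = 0 ∧ y' = 0
    · obtain ⟨rfl, rfl⟩ := hxy
      rw [thi_zero', vv_zero]
      exact A.one_mem
    · obtain ⟨M, hM⟩ := exists_mact he0 hxy
      have h2 := hact M e hev
      unfold act at h2
      rw [hth, hM] at h2
      exact h2
  have hV4' : ∀ f : V5, f.2.2.1 - f.2.2.2.1 - f.2.2.2.2 = 0 → D.vv f ∈ A := by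
    intro f hf
    have h2 := hV4 (th f).1 (th f).2.1
    have h3 : ((th f).1, (th f).2.1, (0 : ZMod 3)) = th f := Prod.ext rfl (Prod.ext rfl hf.symm)
    rw [h3, thi_th] at h2
    exact h2
  -- elements of `U`
  have hsum : ∀ {e f : V5}, D.uu e ∈ A → D.uu f ∈ A → D.uu (e + f) ∈ A := by
    intro e f he hf
    rw [uu_add]
    exact A.mul_mem he hf
  have hsmul : ∀ {e : V5} (n : ℕ), D.uu e ∈ A → D.uu (n • e) ∈ A := by
    intro e n he
    rw [uu_nsmul]
    exact A.pow_mem he n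
  have hu1 : D.uu (1, 0, 0, 0, 0) ∈ A := by
    rw [← vv_W _ rfl]
    exact hV4' _ dz1
  have hu2 : D.uu (0, 1, 0, 0, 0) ∈ A := by
    rw [← vv_W _ rfl]
    exact hV4' _ dz2
  have hx : D.uu (0, 0, 1, 0, 0) * D.v1 ∈ A := by
    have := hV4' (0, 0, 1, 1, 0) dz3
    have e2 : D.vv (0, 0, 1, 1, 0) = D.uu (0, 0, 1, 0, 0) * D.v1 := by
      unfold vv vab; simp [ZMod.val_one]
    rwa [e2] at this
  have hz : D.uu (0, 0, 1, 0, 0) * D.v2 ∈ A := by
    have := hV4' (0, 0, 1, 0, 1) dz4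
    have e2 : D.vv (0, 0, 1, 0, 1) = D.uu (0, 0, 1, 0, 0) * D.v2 := by
      unfold vv vab; simp [ZMod.val_one]
    rwa [e2] at this
  -- conjugation
  have hcv : ∀ {s v : G} {f : V5 → V5} {g : V5}, s ∈ D.Tg → D.Act s f → s⁻¹ * v * s = D.uu g * v →
      D.uu (0, 0, 1, 0, 0) * v ∈ A → D.uu (f (0, 0, 1, 0, 0) + g + -(0, 0, 1, 0, 0)) ∈ A := by
    intro s v f g hs hf hg hv
    have h2 := hcj' s hs _ hv
    have h3 : s⁻¹ * (D.uu (0, 0, 1, 0, 0) * v) * s = (s⁻¹ * D.uu (0, 0, 1, 0, 0) * s) * (s⁻¹ * v * s) := by group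
    rw [h3, hf, hg] at h2
    have h4 := A.mul_mem h2 (A.inv_mem hv)
    have h5 : D.uu (f (0, 0, 1, 0, 0)) * (D.uu g * v) * (D.uu (0, 0, 1, 0, 0) * v)⁻¹ =
        D.uu (f (0, 0, 1, 0, 0)) * D.uu g * (D.uu (0, 0, 1, 0, 0))⁻¹ := by group
    rwa [h5, ← uu_neg, ← uu_add, ← uu_add] at h4
  have g1 : D.r1⁻¹ * D.v1 * D.r1 = D.uu (2, 0, 2, 1, 0) * D.v1 := by
    have := conj_eq_of (x := D.v1) (s := D.r1) (y := D.u1 ^ 2 * D.u3 ^ 2 * D.u4 * D.v1) (by rw [D.j_v1_r1]; simp only [mul_assoc])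
    rw [this]
    unfold uu
    simp [ZMod.val_one, val_two]
  have g2 : D.r2⁻¹ * D.v1 * D.r2 = D.uu (2, 2, 2, 0, 2) * D.v1 := by
    have := conj_eq_of (x := D.v1) (s := D.r2) (y := D.u1 ^ 2 * D.u2 ^ 2 * D.u3 ^ 2 * D.u5 ^ 2 * D.v1)
      (by rw [D.j_v1_r2]; simp only [mul_assoc])
    rw [this]
    unfold uu
    simp [ZMod.val_one, val_two]
  have g3 : D.r1⁻¹ * D.v2 * D.r1 = D.uu (1, 2, 0, 1, 2) * D.v2 := by
    have := conj_eq_of (x := D.v2) (s := D.r1) (y := D.u1 * D.u2 ^ 2 * D.u4 * D.u5 ^ 2 * D.v2)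
      (by rw [D.j_v2_r1]; simp only [mul_assoc])
    rw [this]
    unfold uu
    simp [ZMod.val_one, val_two]
  have k1 := hcv D.r1_Tg D.act_r1 g1 hx
  have k2 := hcv D.r2_Tg D.act_r2 g2 hx
  have k3 := hcv D.r1_Tg D.act_r1 g3 hz
  have hUall : ∀ f : V5, D.uu f ∈ A := by
    intro f
    obtain ⟨i, j, k, l, m, hf⟩ := dec_all f
    rw [hf]
    exact hsum (hsum (hsum (hsum (hsmul _ hu1) (hsmul _ hu2)) (hsmul _ k1)) (hsmul _ k2)) (hsmul _ k3)
  have hUA : D.U ≤ A := by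
    intro x hx
    obtain ⟨f, rfl⟩ := (D.mem_U).1 hx
    exact hUall f
  have hv1 : D.v1 ∈ A := by
    have := A.mul_mem (A.inv_mem (hUall (0, 0, 1, 0, 0))) hx
    rwa [inv_mul_cancel_left] at this
  have hv2 : D.v2 ∈ A := by
    have := A.mul_mem (A.inv_mem (hUall (0, 0, 1, 0, 0))) hz
    rwa [inv_mul_cancel_left] at this
  exact adj_le (adj_le hUA hv1) hv2

/-- `N` is normal in `B` -/
theorem TRel.B_conj_N (h : TRel D t) (h1 : D.u1 ≠ 1) {b x : G} (hb : b ∈ h.B) (hx : x ∈ D.N) : b * x * b⁻¹ ∈ D.N := by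
  have ht : ∀ x ∈ D.N, t⁻¹ * x * t ∈ D.N := by
    have m1 := D.U_le_N D.u1_mem
    have m2 := D.U_le_N D.u2_mem
    have m3 := D.U_le_N D.u3_mem
    have m4 := D.U_le_N D.u4_mem
    have m5 := D.U_le_N D.u5_mem
    have n1 := D.v1_N
    have n2 := D.v2_N
    have M : ∀ {x y : G}, x ∈ D.N → y ∈ D.N → x * y ∈ D.N := fun hx hy => D.N.mul_mem hx hy
    have P : ∀ {x : G}, x ∈ D.N → ∀ n : ℕ, x ^ n ∈ D.N := fun hx n => D.N.pow_mem hx n
    have k1 : t⁻¹ * D.u1 * t = D.u1 * D.u2 ^ 2 := conj_eq_of (by rw [h.u1, mul_assoc])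
    have k2 : t⁻¹ * D.u2 * t = D.u1 ^ 2 := conj_eq_of h.u2
    have k3 : t⁻¹ * D.u3 * t = D.u3 := conj_eq_of h.u3
    have k4 : t⁻¹ * D.u4 * t = D.u3 ^ 2 * D.u5 ^ 2 := conj_eq_of (by rw [h.u4]; simp only [mul_assoc])
    have k5 : t⁻¹ * D.u5 * t = D.u3 * D.u4 := conj_eq_of (by rw [h.u5]; simp only [mul_assoc])
    have k6 : t⁻¹ * D.v1 * t = D.u1 ^ 2 * D.u2 * D.v2 := conj_eq_of (by rw [h.v1]; simp only [mul_assoc])
    have k7 : t⁻¹ * D.v2 * t = D.u1 * D.u3 ^ 2 * (D.v1 * D.v2 ^ 2) :=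
      conj_eq_of (by rw [h.v2]; simp only [mul_assoc])
    refine adj_conj (adj_conj (conj_uu_mem ?_ ?_ ?_ ?_ ?_) ?_) ?_
    · rw [k1]; exact M m1 (P m2 2)
    · rw [k2]; exact P m1 2
    · rw [k3]; exact m3
    · rw [k4]; exact M (P m3 2) (P m5 2)
    · rw [k5]; exact M m3 m4
    · rw [k6]; exact M (M (P m1 2) m2) n2
    · rw [k7]; exact M (M m1 (P m3 2)) (M n1 (P n2 2))
  have htn : ∀ n : ℕ, ∀ x ∈ D.N, (t ^ n)⁻¹ * x * t ^ n ∈ D.N := by
    intro n
    induction n with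
    | zero => intro x hx; rw [pow_zero, inv_one, one_mul, mul_one]; exact hx
    | succ n ih =>
      intro x hx
      have h2 := ht _ (ih x hx)
      have h3 : (t ^ (n + 1))⁻¹ * x * t ^ (n + 1) = t⁻¹ * ((t ^ n)⁻¹ * x * t ^ n) * t := by
        rw [pow_succ]; group
      rw [h3]
      exact h2
  obtain ⟨s, hs, n, rfl⟩ := hb
  have h2 := htn (7 * n) x hx
  rw [← h.inv_pow, inv_inv] at h2
  have h3 := conj_N h1 (D.Tg.inv_mem hs) h2
  have h4 : s⁻¹⁻¹ * (t ^ n * x * (t ^ n)⁻¹) * s⁻¹ = s * t ^ n * x * (s * t ^ n)⁻¹ := by group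
  rwa [h4] at h3

/-- `N` is closed -/
theorem TRel.N_closed (h : TRel D t) (h1 : D.u1 ≠ 1) {P : Subgroup G} {φ : P →* G}
    (hφ : φ ∈ (Ext.ext h.F0 Vs_le_Tg (Phi (D := D) h1).range).Hom P) : ∀ x : P, (x : G) ∈ D.N → φ x ∈ D.N := by
  have hφ' : Ext.Gen (Ext.fam h.F0 D.Vs (Phi (D := D) h1).range) P φ := hφ
  clear hφ
  induction hφ' with
  | @base P φ h2 =>
    intro x hx
    rcases h2 with ⟨-, -, b, hb, h2⟩ | ⟨hP, δ, hδ, h2⟩
    · rw [h2]
      exact h.B_conj_N h1 hb hx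
    · rw [h2]
      exact Vs_le_N (δ _).2
  | @comp P Q φ ψ h2 h3 h4 ih1 ih2 =>
    intro x hx
    exact ih2 ⟨φ x, h4 x⟩ (ih1 x hx)

/-- the Weyl element -/
def wey : SL := ⟨!![0, 1; -1, 0], by simp [Matrix.det_fin_two]⟩

theorem TRel.delta_not_le (h : TRel D t) (h1 : D.u1 ≠ 1) : ¬ (Phi (D := D) h1).range ≤ h.F0.autGroup D.Vs := by
  intro hle
  obtain ⟨M, hM, he⟩ := (h.mem_aut0_iff h1).1 (hle ⟨wey, rfl⟩)
  have h2 := Phi_injective h1 he
  rw [← h2] at hM
  have h3 : (-1 : F9) = 0 := hM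
  exact absurd h3 (by decide)

theorem u4_not_Vs (h1 : D.u1 ≠ 1) : D.u4 ∉ D.Vs := by
  intro h
  have h2 : D.Eta D.u4 ((1, 0), 0) := ⟨(0, 0, 0, 1, 0), rfl, by
    rw [vab_zero, mul_one, uu_4]⟩
  have h3 := (mem_Vs_iff h1 h2).1 h
  exact absurd h3 (by decide)

/-- no nontrivial normal subgroups -/
theorem TRel.normal_eq_bot (h : TRel D t) (h1 : D.u1 ≠ 1) {A : Subgroup G}
    (hA : (Ext.ext h.F0 Vs_le_Tg (Phi (D := D) h1).range).IsNormal A) : A = ⊥ := by
  have hfin : Finite D.Tg := Nat.finite_of_card_ne_zero (by rw [card_Tg h1]; norm_num)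
  by_contra hne
  have h2 := h.N_le h1 (Cfsg.Agent.H759.IsNormal.stronglyClosed hA) hne
  have h3 := Ext.normal_le_E Vs_le_Tg (h.delta_not_le h1) hA
  exact u4_not_Vs h1 (h3 (h2 (D.U_le_N D.u4_mem)))

end Cfsg.Agent.H775.Th
end

-- part: H775/Th/MinReal
section
/-!
# From a group realizing a system with a minimal strongly closed subgroup to a simple group (helper775)
-/

set_option autoImplicit false

namespace Cfsg.Agent.H775.MinReal

open Cfsg Cfsg.Agent.Lib.Cores Cfsg.Agent.H777.Real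

universe u v

/-- closed under fusion -/
def Closed {P : Type u} {G : Type v} [Group P] [Group G] (ι : P →* G) (A : Subgroup P) : Prop :=
  ∀ a ∈ A, ∀ b : P, (∃ g : G, ι b = g * ι a * g⁻¹) → b ∈ A

/-- normal in the fusion system -/
def Norm {P : Type u} {G : Type v} [Group P] [Group G] (ι : P →* G) (A : Subgroup P) : Prop :=
  ∀ (Q : Subgroup P) (φ : Q →* P), Fus ι φ → ∃ ψ : ↥(Q ⊔ A) →* P, Fus ι ψ ∧
    (∀ x : Q, ψ (Subgroup.inclusion le_sup_left x) = φ x) ∧ (A.subgroupOf (Q ⊔ A)).map ψ = A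

variable {p : ℕ} [Fact p.Prime]

/-- strongly closed in one Sylow subgroup and contained in another one -/
theorem stronglyClosed_of {G : Type v} [Group G] [Finite G] {B : Subgroup G} (T : Sylow p G) (hB : B ≤ (T : Subgroup G))
    {S : Sylow p G} (h : IsStronglyClosed B (S : Subgroup G)) : IsStronglyClosed B (T : Subgroup G) := by
  obtain ⟨x, hx⟩ := MulAction.exists_smul_eq G T S
  have hmem : ∀ y, y ∈ (S : Subgroup G) ↔ x⁻¹ * y * x ∈ (T : Subgroup G) := by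
    intro y
    rw [← hx, Sylow.coe_subgroup_smul]
    constructor
    · rintro ⟨t, ht, hty⟩
      have h0 : x * t * x⁻¹ = y := hty
      have : x⁻¹ * y * x = t := by
        rw [← h0]
        group
      rw [this]
      exact ht
    · intro h
      refine ⟨_, h, ?_⟩
      show x * (x⁻¹ * y * x) * x⁻¹ = y
      group
  -- `x` normalizes `B`
  have h1 : B.map (MulAut.conj x).toMonoidHom ≤ B := by
    rintro _ ⟨b, hb, rfl⟩
    refine h.2 b hb x ?_
    rw [hmem]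
    have : x⁻¹ * (x * b * x⁻¹) * x = b := by group
    rw [this]
    exact hB hb
  have h2 : B.map (MulAut.conj x).toMonoidHom = B := by
    apply Subgroup.eq_of_le_of_card_ge h1
    rw [← Nat.card_congr (B.equivMapOfInjective (MulAut.conj x).toMonoidHom (MulAut.conj x).injective).toEquiv]
  have h3 : ∀ y, x * y * x⁻¹ ∈ B → y ∈ B := by
    intro y hy
    rw [← h2] at hy
    obtain ⟨b, hb, hby⟩ := hy
    have h4 : x * b * x⁻¹ = x * y * x⁻¹ := hby
    rwa [mul_left_cancel (mul_right_cancel h4)] at hb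
  refine ⟨hB, fun b hb g hg => ?_⟩
  apply h3
  have h4 := h.2 b hb (x * g) (by
    rw [hmem]
    have : x⁻¹ * (x * g * b * (x * g)⁻¹) * x = g * b * g⁻¹ := by group
    rw [this]
    exact hg)
  have h5 : x * g * b * (x * g)⁻¹ = x * (g * b * g⁻¹) * x⁻¹ := by group
  rwa [h5] at h4

theorem pow_card_eq {G : Type v} [Group G] [Finite G] {P : Type u} [Group P] [Finite P] {n : ℕ} (κ : P →* G)
    (hκ : Function.Injective κ) (T : Sylow p G) (hT : (T : Subgroup G) = κ.range) (hc : Nat.card P = p ^ n) :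
    (Nat.card G).factorization p = n := by
  have hp : p.Prime := Fact.out
  have h1 := T.card_eq_multiplicity
  have h2 : Nat.card T = p ^ n := by
    show Nat.card (T : Subgroup G) = _
    rw [hT, ← Nat.card_congr (MonoidHom.ofInjective hκ).toEquiv, hc]
  rw [h2] at h1
  exact (Nat.pow_right_injective hp.two_le h1).symm

/-- a `p`-group embedded in a power of a group with Sylow `p`-subgroups of order `p` is abelian -/
theorem comm_of_pi {T : Type v} [Group T] [Finite T] {m : ℕ} (hT : (Nat.card T).factorization p = 1)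
    {P : Type u} [Group P] (hP : IsPGroup p P) (f : P →* (Fin m → T)) (hf : Function.Injective f) (x y : P) :
    x * y = y * x := by
  have hp : p.Prime := Fact.out
  apply hf
  rw [map_mul, map_mul]
  funext i
  show f x i * f y i = f y i * f x i
  set g : P →* T := (Pi.evalMonoidHom (fun _ : Fin m => T) i).comp f with hg
  have h1 : IsPGroup p g.range := hP.of_surjective g.rangeRestrict g.rangeRestrict_surjective
  obtain ⟨Q, hQ⟩ := h1.exists_le_sylow
  have h2 : Nat.card Q = p := by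
    rw [Q.card_eq_multiplicity, hT, pow_one]
  have h3 : IsCyclic Q := isCyclic_of_prime_card h2
  have h4 : ∀ a b : Q, a * b = b * a := by
    intro a b
    have := h3.isMulCommutative
    exact this.is_comm.comm a b
  have hx : f x i ∈ (Q : Subgroup T) := hQ ⟨x, rfl⟩
  have hy : f y i ∈ (Q : Subgroup T) := hQ ⟨y, rfl⟩
  exact congrArg Subtype.val (h4 ⟨_, hx⟩ ⟨_, hy⟩)

/-- **Reduction to a simple group.** -/
theorem exists_simple {P : Type u} [Group P] [Finite P] (hP : IsPGroup p P)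
    {G : Type v} [Group G] [Finite G] (ι : P →* G) (hι : Function.Injective ι) (T : Sylow p G)
    (hT : (T : Subgroup G) = ι.range)
    (h5302 : ∀ (H : Type v) [Group H] [Finite H] (A : Subgroup H), IsPGroup p A → A ≠ ⊥ →
      (∃ S : Sylow p H, IsStronglyClosed A (S : Subgroup H)) →
      (∀ B : Subgroup H, B ≤ A → B ≠ ⊥ → (∃ S : Sylow p H, IsStronglyClosed B (S : Subgroup H)) → B = A) →
      p ∣ A.relIndex (Subgroup.normalClosure (A : Set H)) → IsElementaryAbelian p A)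
    (N : Subgroup P) (hN : Closed ι N) (hmin : ∀ A : Subgroup P, Closed ι A → A ≠ ⊥ → N ≤ A)
    (hnorm : ∀ A : Subgroup P, Norm ι A → A = ⊥)
    {q : ℕ} (hq : q.Prime) (hcN : Nat.card N = p ^ q) (hab : ¬ ∀ x ∈ N, ∀ y ∈ N, x * y = y * x) :
    ∃ (K : Type v) (_ : Group K) (_ : Finite K) (κ : N →* K), IsSimpleGroup K ∧ Function.Injective κ ∧
      (∃ T' : Sylow p K, (T' : Subgroup K) = κ.range) := by
  have hp : p.Prime := Fact.out
  set N₀ := pPrimeCore p G with hN₀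
  have hN₀c : (Nat.card N₀).Coprime p := pPrimeCore_coprime p
  set ι₁ : P →* G ⧸ N₀ := (QuotientGroup.mk' N₀).comp ι with hι₁
  have hrp : IsPGroup p ι.range := hP.of_surjective ι.rangeRestrict ι.rangeRestrict_surjective
  have hinj₁ : Function.Injective ι₁ := by
    rw [injective_iff_map_eq_one]
    intro x hx
    have h1 : ι x ∈ N₀ := (QuotientGroup.eq_one_iff _).1 hx
    have h2 := H803.eq_one_of_mem_of_coprime hrp hN₀c (⟨x, rfl⟩ : ι x ∈ ι.range) h1
    exact (injective_iff_map_eq_one ι).1 hι x h2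
  -- fusion in the quotient
  have hfus : ∀ (Q : Subgroup P) (φ : Q →* P), Fus ι₁ φ → Fus ι φ := by
    rintro Q φ ⟨g', hg⟩
    obtain ⟨g, rfl⟩ := QuotientGroup.mk_surjective g'
    obtain ⟨k, hk, hke⟩ := H803.exists_conj_of_congr (hP.to_subgroup Q)
      ((MulAut.conj g).toMonoidHom.comp (ι.comp Q.subtype)) (ι.comp φ) N₀ hN₀c (fun x => by
        rw [← QuotientGroup.eq]
        exact (hg x).symm)
    refine ⟨k * g, fun x => ?_⟩
    have h1 := hke x
    have h2 : ι (φ x) = k * (g * ι x * g⁻¹) * k⁻¹ := h1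
    rw [h2]
    group
  have hfus' : ∀ (Q : Subgroup P) (φ : Q →* P), Fus ι φ → Fus ι₁ φ := by
    rintro Q φ ⟨g, hg⟩
    refine ⟨QuotientGroup.mk' N₀ g, fun x => ?_⟩
    rw [hι₁, MonoidHom.comp_apply, MonoidHom.comp_apply, hg, map_mul, map_mul, map_inv]
  have hcard : Nat.card P = p ^ (Nat.card G).factorization p := by
    rw [Nat.card_congr (MonoidHom.ofInjective hι).toEquiv, ← hT]
    exact T.card_eq_multiplicity
  have hfac : (Nat.card G).factorization p = (Nat.card (G ⧸ N₀)).factorization p := by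
    rw [Subgroup.card_eq_card_quotient_mul_card_subgroup N₀,
      Nat.factorization_mul Nat.card_pos.ne' Nat.card_pos.ne']
    have h1 : (Nat.card N₀).factorization p = 0 :=
      Nat.factorization_eq_zero_of_not_dvd ((Nat.Prime.coprime_iff_not_dvd hp).1 hN₀c.symm)
    simp only [h1, _root_.Finsupp.coe_add, _root_.Pi.add_apply, _root_.add_zero]
  let T₁ : Sylow p (G ⧸ N₀) := Sylow.ofCard ι₁.range (by
    rw [← Nat.card_congr (MonoidHom.ofInjective hinj₁).toEquiv, hcard, hfac])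
  have hT₁ : (T₁ : Subgroup (G ⧸ N₀)) = ι₁.range := rfl
  have hcore : pPrimeCore p (G ⧸ N₀) = ⊥ := pPrimeCore_quotient_pPrimeCore p
  -- closed subgroups
  have hcl1 : ∀ A : Subgroup P, Closed ι₁ A → Closed ι A := by
    rintro A hA a ha b ⟨g, hg⟩
    refine hA a ha b ⟨QuotientGroup.mk' N₀ g, ?_⟩
    rw [hι₁, MonoidHom.comp_apply, MonoidHom.comp_apply, hg, map_mul, map_mul, map_inv]
  have hcl2 : ∀ A : Subgroup P, Closed ι A → Closed ι₁ A := by
    rintro A hA a ha b ⟨g, hg⟩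
    have h1 : ∀ x ∈ Subgroup.zpowers a, ∃ y, ι₁ y = g * ι₁ x * g⁻¹ := by
      intro x hx
      obtain ⟨k, rfl⟩ := Subgroup.mem_zpowers_iff.1 hx
      refine ⟨b ^ k, ?_⟩
      rw [map_zpow, hg, map_zpow, conj_zpow]
    obtain ⟨φ, hφ⟩ := exists_fus hinj₁ h1
    obtain ⟨g', hg'⟩ := hfus _ φ ⟨g, hφ⟩
    have h2 : φ ⟨a, Subgroup.mem_zpowers a⟩ = b := hinj₁ (by rw [hφ, hg])
    exact hA a ha b ⟨g', by rw [← h2, hg']⟩
  have hscl : ∀ A : Subgroup P, Closed ι A → IsStronglyClosed (A.map ι₁) (T₁ : Subgroup (G ⧸ N₀)) := by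
    intro A hA
    refine ⟨?_, ?_⟩
    · rintro _ ⟨a, -, rfl⟩
      exact ⟨a, rfl⟩
    · rintro _ ⟨a, ha, rfl⟩ g hg
      rw [hT₁] at hg
      obtain ⟨b, hb⟩ := hg
      exact ⟨b, hcl2 A hA a ha b ⟨g, hb⟩, hb⟩
  have hscl' : ∀ A : Subgroup P, IsStronglyClosed (A.map ι₁) (T₁ : Subgroup (G ⧸ N₀)) → Closed ι A := by
    intro A hA
    apply hcl1
    rintro a ha b ⟨g, hg⟩
    have h1 := hA.2 (ι₁ a) ⟨a, ha, rfl⟩ g (by rw [← hg, hT₁]; exact ⟨b, rfl⟩)
    rw [← hg] at h1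
    obtain ⟨c, hc, hcb⟩ := h1
    rwa [← hinj₁ hcb]
  -- the closed subgroup `N`
  have hNne : N ≠ ⊥ := by
    rintro rfl
    rw [Subgroup.card_bot] at hcN
    exact (Nat.one_lt_pow hq.ne_zero hp.one_lt).ne hcN
  have hcN1 : Nat.card (N.map ι₁) = p ^ q := by
    rw [← Nat.card_congr (N.equivMapOfInjective ι₁ hinj₁).toEquiv, hcN]
  have hN1ne : N.map ι₁ ≠ ⊥ := fun h => hNne ((Subgroup.map_eq_bot_iff_of_injective _ hinj₁).1 h)
  have hnd : ¬ p ∣ (N.map ι₁).relIndex (Subgroup.normalClosure ((N.map ι₁ : Subgroup (G ⧸ N₀)) : Set (G ⧸ N₀))) := by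
    intro hd
    have h1 := h5302 (G ⧸ N₀) (N.map ι₁) (IsPGroup.of_card hcN1) hN1ne ⟨T₁, hscl N hN⟩ ?_ hd
    · apply hab
      intro x hx y hy
      have := h1.1
      have h2 := this.is_comm.comm (⟨ι₁ x, x, hx, rfl⟩ : ↥(N.map ι₁)) ⟨ι₁ y, y, hy, rfl⟩
      have h3 : ι₁ x * ι₁ y = ι₁ y * ι₁ x := congrArg Subtype.val h2
      exact hinj₁ (by rw [map_mul, map_mul, h3])
    · rintro B hB hB1 ⟨S, hS⟩
      have h2 := stronglyClosed_of T₁ (hB.trans (hscl N hN).1) hS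
      have h3 : (B.comap ι₁).map ι₁ = B := by
        rw [Subgroup.map_comap_eq, inf_eq_right]
        exact h2.1
      have h4 : Closed ι (B.comap ι₁) := hscl' _ (by rw [h3]; exact h2)
      have h5 : N ≤ B.comap ι₁ := hmin _ h4 (by
        intro h
        apply hB1
        rw [← h3, h, Subgroup.map_bot])
      exact le_antisymm hB (by rw [← h3]; exact Subgroup.map_mono h5)
  set R := Subgroup.normalClosure ((N.map ι₁ : Subgroup (G ⧸ N₀)) : Set (G ⧸ N₀)) with hR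
  have hNR : N.map ι₁ ≤ R := Subgroup.subset_normalClosure
  have hRne : R ≠ ⊥ := by
    intro h
    rw [h] at hNR
    exact hN1ne (le_bot_iff.1 hNR)
  obtain ⟨M, hMR, hMn, hM1, hMmin⟩ := H405.PSq.exists_min R Subgroup.normalClosure_normal hRne
  obtain ⟨hpM, hcase⟩ := H405.PSq.minNormal_cases hp hcore M hM1 hMmin
  -- `M` contains `N`
  have hMcop : ¬ (Nat.card M).Coprime p := by
    intro h
    exact (hp.coprime_iff_not_dvd.1 h.symm) hpM
  have hMcl : Closed ι (M.comap ι₁) := by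
    apply hcl1
    rintro a ha b ⟨g, hg⟩
    rw [Subgroup.mem_comap] at ha ⊢
    rw [hg]
    exact hMn.conj_mem _ ha g
  have hMc1 : M.comap ι₁ ≠ ⊥ := by
    intro h
    obtain ⟨x, hxM, hxT, hx1⟩ := exists_mem_sylow T₁ hMcop
    rw [hT₁] at hxT
    obtain ⟨y, rfl⟩ := hxT
    have h2 : y ∈ M.comap ι₁ := hxM
    rw [h, Subgroup.mem_bot] at h2
    exact hx1 (by rw [h2, map_one])
  have hNM : N ≤ M.comap ι₁ := hmin _ hMcl hMc1
  have hRM : R = M := by
    apply le_antisymm _ hMR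
    exact Subgroup.normalClosure_le_normal (by
      rintro _ ⟨x, hx, rfl⟩
      exact hNM hx)
  -- `M` is not a `p`-group
  have hnp : ¬ IsPGroup p M := by
    intro hMp
    refine hMc1 (hnorm _ ?_)
    intro Q φ hφ
    obtain ⟨g, hg⟩ := hfus' _ _ hφ
    have hMT : M ≤ (T₁ : Subgroup (G ⧸ N₀)) := by
      obtain ⟨Q', hQ'⟩ := hMp.exists_le_sylow
      obtain ⟨x, hx⟩ := MulAction.exists_smul_eq (G ⧸ N₀) Q' T₁
      intro y hy
      rw [← hx, Sylow.coe_subgroup_smul]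
      refine ⟨x⁻¹ * y * x, hQ' ?_, ?_⟩
      · have := hMn.conj_mem y hy x⁻¹
        rwa [inv_inv] at this
      · show x * (x⁻¹ * y * x) * x⁻¹ = y
        group
    set A := M.comap ι₁ with hA
    have h1 : ∀ x ∈ Q ⊔ A, ∃ y, ι₁ y = g * ι₁ x * g⁻¹ := by
      have h2 : Q ⊔ A ≤ ((T₁ : Subgroup (G ⧸ N₀)).comap (MulAut.conj g).toMonoidHom).comap ι₁ := by
        rw [sup_le_iff]
        constructor
        · intro x hx
          show g * ι₁ x * g⁻¹ ∈ ι₁.range
          exact ⟨φ ⟨x, hx⟩, hg ⟨x, hx⟩⟩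
        · intro x hx
          show g * ι₁ x * g⁻¹ ∈ (T₁ : Subgroup (G ⧸ N₀))
          exact hMT (hMn.conj_mem _ hx g)
      intro x hx
      exact h2 hx
    obtain ⟨ψ, hψ⟩ := exists_fus hinj₁ h1
    refine ⟨ψ, hfus _ _ ⟨g, hψ⟩, fun x => hinj₁ (by rw [hψ, hg]; rfl), ?_⟩
    have hψi : Function.Injective ψ := by
      intro a b hab
      have h3 : g * ι₁ a * g⁻¹ = g * ι₁ b * g⁻¹ := by rw [← hψ, ← hψ, hab]
      exact Subtype.ext (hinj₁ (mul_left_cancel (mul_right_cancel h3)))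
    apply Subgroup.eq_of_le_of_card_ge
    · rintro _ ⟨x, hx, rfl⟩
      show ι₁ (ψ x) ∈ M
      rw [hψ]
      exact hMn.conj_mem _ hx g
    · rw [← Nat.card_congr ((A.subgroupOf (Q ⊔ A)).equivMapOfInjective ψ hψi).toEquiv,
        Nat.card_congr (Subgroup.subgroupOfEquivOfLe (le_sup_right : A ≤ Q ⊔ A)).toEquiv]
  -- the Sylow subgroup of `M`
  set κ : N →* M := (ι₁.comp N.subtype).codRestrict M (fun x => hNM x.2) with hκ
  have hκi : Function.Injective κ := fun a b hab => Subtype.ext (hinj₁ (congrArg Subtype.val hab))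
  have hidx : ¬ p ∣ κ.range.index := by
    have h1 : κ.range = (N.map ι₁).subgroupOf M := by
      ext x
      constructor
      · rintro ⟨y, rfl⟩
        exact ⟨y, y.2, rfl⟩
      · rintro ⟨y, hy, hyx⟩
        exact ⟨⟨y, hy⟩, Subtype.ext hyx⟩
    rw [h1]
    rw [hRM] at hnd
    exact hnd
  have hκp : IsPGroup p κ.range := (IsPGroup.of_card hcN).of_surjective κ.rangeRestrict κ.rangeRestrict_surjective
  let T' : Sylow p M := hκp.toSylow hidx
  have hT' : (T' : Subgroup M) = κ.range := rfl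
  have hfM : (Nat.card M).factorization p = q := pow_card_eq κ hκi T' hT' hcN
  rcases hcase with h | ⟨L, hLM, hLs, hLna, hpL, m, hm, ⟨e⟩⟩
  · exact absurd h hnp
  · have hfL : Finite L := inferInstance
    have h1 : m * (Nat.card L).factorization p = q := by
      rw [← hfM, H405.PSq.card_pow e, Nat.factorization_pow]
      rfl
    have h2 : (Nat.card L).factorization p ≠ 0 := by
      intro h
      rw [h, mul_zero] at h1
      exact hq.ne_zero h1.symm
    rcases (Nat.dvd_prime hq).1 ⟨_, h1.symm⟩ with hm1 | hmq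
    · subst hm1
      refine ⟨M, inferInstance, inferInstance, κ, ?_, hκi, T', hT'⟩
      let e' : M ≃* L := e.trans (MulEquiv.piUnique (fun _ : Fin 1 => L))
      exact e'.isSimpleGroup
    · exfalso
      have h3 : (Nat.card L).factorization p = 1 := by
        rw [hmq] at h1
        exact Nat.eq_of_mul_eq_mul_left hq.pos (by rw [h1, mul_one])
      apply hab
      intro x hx y hy
      have h4 := comm_of_pi h3 (IsPGroup.of_card hcN) (e.toMonoidHom.comp κ) (e.injective.comp hκi) ⟨x, hx⟩ ⟨y, hy⟩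
      exact congrArg Subtype.val h4

end Cfsg.Agent.H775.MinReal
end

-- part: H775/Elim7
section
/-!
# Interface for the elimination of the simple groups with a certain Sylow 3-subgroup of order `3 ^ 7` (helper775)

For S5231: the Sylow 3-subgroup has exponent 3 and its abelian subgroups have order at most `3 ^ 5`. `Row7 K`: if the
3-part of `|K|` is `3 ^ 7` then `K` has an abelian 3-subgroup of order at least `3 ^ 6` or an element of order 9.
-/

set_option autoImplicit false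

namespace Cfsg.Agent.H775.Elim7

open Cfsg.Agent.H777.Elim

/-- an abelian 3-subgroup of order at least `3 ^ 6`, or an element of order 9 -/
def Big7 (K : Type*) [Group K] : Prop :=
  (∃ A : Subgroup K, IsPGroup 3 A ∧ (∀ x ∈ A, ∀ y ∈ A, x * y = y * x) ∧ 3 ^ 6 ≤ Nat.card A) ∨
    ∃ x : K, orderOf x = 9

/-- the row to be proved -/
def Row7 (K : Type*) [Group K] : Prop := Vn 7 K → Big7 K

theorem Big7.congr {K L : Type*} [Group K] [Group L] (e : K ≃* L) (h : Big7 K) : Big7 L := by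
  rcases h with ⟨A, hA, hab, hc⟩ | ⟨x, hx⟩
  · refine Or.inl ⟨A.map e.toMonoidHom, hA.map _, ?_, ?_⟩
    · rintro _ ⟨x, hx, rfl⟩ _ ⟨y, hy, rfl⟩
      rw [← map_mul, ← map_mul, hab x hx y hy]
    · rw [← Nat.card_congr (A.equivMapOfInjective e.toMonoidHom e.injective).toEquiv]
      exact hc
  · exact Or.inr ⟨e x, by rw [← hx]; exact MulEquiv.orderOf_eq e x⟩

theorem Row7.congr {K L : Type*} [Group K] [Group L] (e : K ≃* L) (h : Row7 K) : Row7 L := by
  intro hV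
  apply (h _).congr e
  unfold Vn at hV ⊢
  rwa [Nat.card_congr e.toEquiv]

/-- `Big` implies `Big7`: an element of order 81 has a power of order 9 -/
theorem Big7.of_big {K : Type*} [Group K] (h : Big K) : Big7 K := by
  rcases h with h | ⟨x, hx⟩
  · exact Or.inl h
  · exact Or.inr ⟨x ^ 9, by rw [orderOf_pow' x (by norm_num), hx]; norm_num⟩

/-- `Big7` from an element whose order is divisible by 9 -/
theorem Big7.of_dvd {K : Type*} [Group K] {x : K} (h0 : orderOf x ≠ 0) (h : 9 ∣ orderOf x) : Big7 K := by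
  obtain ⟨m, hm⟩ := h
  have hm0 : m ≠ 0 := by rintro rfl; exact h0 (by rw [hm])
  refine Or.inr ⟨x ^ m, ?_⟩
  rw [orderOf_pow' x hm0, hm, Nat.gcd_mul_left_left, Nat.mul_div_cancel _ (Nat.pos_of_ne_zero hm0)]

end Cfsg.Agent.H775.Elim7
end

-- part: H775/Th/NotReal
section
/-!
# The system over `Tg` is not realizable (helper775)
-/

set_option autoImplicit false
set_option linter.unusedSimpArgs false

namespace Cfsg.Agent.H775.Th

open Cfsg Cfsg.FusionSystem Cfsg.Agent.H777.Th3 Dat Cfsg.Agent.ChevalleyStructure.NineField Cfsg.Agent.H802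
open Cfsg.Agent.H775 Cfsg.Agent.H759 Cfsg.Agent.H777.Real Cfsg.Agent.H777.Elim

universe u v w

variable {G₀ : Type w} [Group G₀] {D : Dat G₀} {t : G₀}

theorem cube_T (a b : ZMod 3) (e : V5) : e + T (-a) (-b) 0 0 e + T (-a) (-b) 0 0 (T (-a) (-b) 0 0 e) = 0 := by
  rw [T_T]
  have h3 : (3 : ZMod 3) = 0 := rfl
  have h3' : ∀ x : ZMod 3, x + x + x = 0 := by decide
  obtain ⟨e1, e2, e3, e4, e5⟩ := e
  simp only [T, Prod.mk_add_mk]
  refine Prod.ext ?_ (Prod.ext ?_ (Prod.ext ?_ (Prod.ext ?_ ?_)))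
  · show e1 + (e1 + _) + (e1 + _) = (0 : ZMod 3)
    have := h3' e1
    have h4 := h3' (2 * -a * (e4 + e5) + -b * e5)
    linear_combination this + h4
  · show e2 + (e2 + _) + (e2 + _) = (0 : ZMod 3)
    have := h3' e2
    have h4 := h3' (2 * -a * e5 + -b * (e4 + 2 * e5))
    linear_combination this + h4
  · exact h3' e3
  · exact h3' e4
  · exact h3' e5

/-- `N` has exponent 3 -/
theorem N_cube {x : G₀} (hx : x ∈ D.N) : x ^ 3 = 1 := by
  obtain ⟨f, a, b, rfl⟩ := (D.mem_N).1 hx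
  have h3 : D.vab (a, b) = D.v1 ^ a.val * D.v2 ^ b.val := rfl
  rw [← h3]
  set m : F2 := (a, b) with hm
  have h4 : D.vab m * D.uu f = D.uu (T (-a) (-b) 0 0 f) * D.vab m := D.vab_uu m f
  have h5 : D.vab m * D.uu (T (-a) (-b) 0 0 f) = D.uu (T (-a) (-b) 0 0 (T (-a) (-b) 0 0 f)) * D.vab m := D.vab_uu m _
  have h6 : D.vab m * D.vab m * D.vab m = 1 := by
    rw [← vab_add, ← vab_add]
    have : m + m + m = 0 := by
      have h3' : ∀ x : ZMod 3, x + x + x = 0 := by decide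
      exact Prod.ext (h3' _) (h3' _)
    rw [this, vab_zero]
  have h7 : D.vab m * D.vab m * D.uu f = D.uu (T (-a) (-b) 0 0 (T (-a) (-b) 0 0 f)) * (D.vab m * D.vab m) := by
    rw [mul_assoc, h4, ← mul_assoc, h5, mul_assoc]
  calc (D.uu f * D.vab m) ^ 3 = D.uu f * (D.vab m * D.uu f) * (D.vab m * D.uu f) * D.vab m := by
        rw [pow_succ, pow_succ, pow_one]; group
    _ = D.uu f * D.uu (T (-a) (-b) 0 0 f) * (D.vab m * D.uu (T (-a) (-b) 0 0 f)) * (D.vab m * D.vab m) := by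
        rw [h4]; group
    _ = D.uu f * D.uu (T (-a) (-b) 0 0 f) * D.uu (T (-a) (-b) 0 0 (T (-a) (-b) 0 0 f)) *
        (D.vab m * D.vab m * D.vab m) := by
        rw [h5]; group
    _ = 1 := by
        rw [h6, mul_one, ← uu_add, ← uu_add, cube_T, uu_zero]

/-- **the system is not realizable**, given S5302 and the elimination of the simple groups -/
theorem TRel.not_fus (h : TRel D t) (h1 : D.u1 ≠ 1) {C : Type u} [Group C] [Finite C] {k : C →* G₀}
    (hk : Function.Injective k) (hkr : k.range = D.Tg) {Y : FusionSystem (⊤ : Subgroup C)}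
    (hY : IsPush hk Y (Ext.ext h.F0 Vs_le_Tg (Phi (D := D) h1).range))
    {G : Type v} [Group G] [Finite G] (ι : C →* G) (hι : Function.Injective ι) (T : Sylow 3 G)
    (hT : (T : Subgroup G) = ι.range) (hreal : ∀ (Q : Subgroup C) (φ : Q →* C), φ ∈ Y.Hom Q ↔ Fus ι φ)
    (h5302 : ∀ (H : Type v) [Group H] [Finite H] (A : Subgroup H), IsPGroup 3 A → A ≠ ⊥ →
      (∃ S : Sylow 3 H, IsStronglyClosed A (S : Subgroup H)) →
      (∀ B : Subgroup H, B ≤ A → B ≠ ⊥ → (∃ S : Sylow 3 H, IsStronglyClosed B (S : Subgroup H)) → B = A) →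
      3 ∣ A.relIndex (Subgroup.normalClosure (A : Set H)) → IsElementaryAbelian 3 A)
    (helim : ∀ (K : Type v) [Group K] [Finite K] [IsSimpleGroup K], ¬ IsMulCommutative K → Vn 7 K →
      Elim7.Big7 K) : False := by
  have : Fact (Nat.Prime 3) := ⟨Nat.prime_three⟩
  have hmemk : ∀ x, k x ∈ D.Tg := fun x => by rw [← hkr]; exact ⟨x, rfl⟩
  have hcC : Nat.card C = 3 ^ 9 := by
    rw [Nat.card_congr (MonoidHom.ofInjective hk).toEquiv, hkr, card_Tg h1]
  have hP : IsPGroup 3 C := IsPGroup.of_card hcC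
  -- closed subgroups
  have hcl : ∀ A : Subgroup C, MinReal.Closed ι A →
      (Ext.ext h.F0 Vs_le_Tg (Phi (D := D) h1).range).StronglyClosed (A.map k) := by
    intro A hA
    rw [hY.stronglyClosed_iff]
    refine ⟨le_top, fun R hR φ hφ x => ?_⟩
    obtain ⟨g, hg⟩ := (hreal R φ).1 hφ
    exact hA _ (hR x.2) _ ⟨g, hg x⟩
  obtain ⟨N, hN⟩ := exists_eq_map (f := k) (P' := D.N) (by rw [hkr]; exact D.N_le_Tg)
  have hNcl : MinReal.Closed ι N := by
    rintro a ha b ⟨g, hg⟩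
    have h2 : ∀ x ∈ Subgroup.zpowers a, ∃ y, ι y = g * ι x * g⁻¹ := by
      intro x hx
      obtain ⟨j, rfl⟩ := Subgroup.mem_zpowers_iff.1 hx
      refine ⟨b ^ j, ?_⟩
      rw [map_zpow, hg, map_zpow, conj_zpow]
    obtain ⟨φ, hφ⟩ := exists_fus hι h2
    have h3 : φ ⟨a, Subgroup.mem_zpowers a⟩ = b := hι (by rw [hφ, hg])
    have h4 : φ ∈ Y.Hom (Subgroup.zpowers a) := (hreal _ _).2 ⟨g, hφ⟩
    have h5 := (hY.hom _ φ).2 h4
    have h6 := h.N_closed h1 h5 (eqv hk _ ⟨a, Subgroup.mem_zpowers a⟩) (by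
      show k a ∈ D.N
      rw [hN]
      exact ⟨a, ha, rfl⟩)
    rw [cb_eqv, h3, hN] at h6
    exact (map_mem_map hk b).1 h6
  have hmin : ∀ A : Subgroup C, MinReal.Closed ι A → A ≠ ⊥ → N ≤ A := by
    intro A hA hA1
    have h2 := h.N_le h1 (hcl A hA) (fun h => hA1 ((Subgroup.map_eq_bot_iff_of_injective _ hk).1 h))
    rw [hN] at h2
    exact (map_le_map hk).1 h2
  have hnorm : ∀ A : Subgroup C, MinReal.Norm ι A → A = ⊥ := by
    intro A hA
    have h2 : Y.IsNormal A := by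
      refine ⟨le_top, fun Q φ hφ => ?_⟩
      obtain ⟨ψ, hψ, h3, h4⟩ := hA Q φ ((hreal _ _).1 hφ)
      exact ⟨ψ, (hreal _ _).2 hψ, h3, h4⟩
    have h3 := h.normal_eq_bot h1 (hY.isNormal_iff.2 h2)
    exact (Subgroup.map_eq_bot_iff_of_injective _ hk).1 h3
  have hcN : Nat.card N = 3 ^ 7 := by
    rw [Nat.card_congr (N.equivMapOfInjective k hk).toEquiv, ← hN, card_N h1]
  have hab : ¬ ∀ x ∈ N, ∀ y ∈ N, x * y = y * x := by
    intro hab
    have h2 : D.u4 ∈ N.map k := by rw [← hN]; exact D.U_le_N D.u4_mem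
    have h3 : D.v1 ∈ N.map k := by rw [← hN]; exact D.v1_N
    obtain ⟨x, hx, hx'⟩ := h2
    obtain ⟨y, hy, hy'⟩ := h3
    have h4 : D.u4 * D.v1 = D.v1 * D.u4 := by
      rw [← hx', ← hy', ← map_mul, hab x hx y hy, map_mul]
    exact u4_not_Vs h1 (mem_Vs_of_comm h1 v1_Vs (v1_not h1) (D.U_le_N D.u4_mem) h4.symm)
  obtain ⟨K, _, _, κ, hs, hκ, T', hT'⟩ := MinReal.exists_simple hP ι hι T hT h5302 N hNcl hmin hnorm
    (by norm_num : Nat.Prime 7) hcN hab
  -- the simple group `K`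
  have hKna : ¬ IsMulCommutative K := by
    intro hKc
    apply hab
    intro x hx y hy
    have h2 : (⟨x, hx⟩ : N) * ⟨y, hy⟩ = ⟨y, hy⟩ * ⟨x, hx⟩ := hκ (by
      rw [map_mul, map_mul]
      exact hKc.is_comm.comm _ _)
    exact congrArg Subtype.val h2
  have hV : Vn 7 K := by
    have h2 : (Nat.card K).factorization 3 = 7 := MinReal.pow_card_eq κ hκ T' hT' hcN
    constructor
    · rw [Nat.prime_three.pow_dvd_iff_le_factorization Nat.card_pos.ne', h2]
    · rw [Nat.prime_three.pow_dvd_iff_le_factorization Nat.card_pos.ne', h2]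
      norm_num
  have hmemN : ∀ y : N, k y ∈ D.N := by
    intro y
    rw [hN]
    exact ⟨y, y.2, rfl⟩
  -- conjugation of a 3-subgroup into the image of `κ`
  have hconj : ∀ A : Subgroup K, IsPGroup 3 A → ∃ g : K, ∀ a ∈ A, ∃ y : N, κ y = g * a * g⁻¹ := by
    intro A hA
    obtain ⟨Q, hQ⟩ := hA.exists_le_sylow
    obtain ⟨g, hg⟩ := MulAction.exists_smul_eq K Q T'
    refine ⟨g, fun a ha => ?_⟩
    have h2 : g * a * g⁻¹ ∈ (T' : Subgroup K) := by
      rw [← hg, Sylow.coe_subgroup_smul]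
      exact ⟨a, hQ ha, rfl⟩
    rw [hT'] at h2
    obtain ⟨y, hy⟩ := h2
    exact ⟨y, hy⟩
  rcases helim K hKna hV with ⟨A, hA, hAab, hc⟩ | ⟨x, hx⟩
  · obtain ⟨g, hg⟩ := hconj A hA
    set B : Subgroup N := (cj A g⁻¹).comap κ with hBdef
    have hmB : ∀ y, y ∈ B ↔ g⁻¹ * κ y * g ∈ A := by
      intro y
      show g⁻¹ * κ y * g⁻¹⁻¹ ∈ A ↔ _
      rw [inv_inv]
    set kN : N →* G₀ := k.comp N.subtype with hkN
    have hkNi : Function.Injective kN := hk.comp N.subtype_injective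
    have hBab : ∀ x ∈ B.map kN, ∀ y ∈ B.map kN, x * y = y * x := by
      rintro _ ⟨x, hx, rfl⟩ _ ⟨y, hy, rfl⟩
      have h2 := hAab _ ((hmB x).1 hx) _ ((hmB y).1 hy)
      have h3 : κ x * κ y = κ y * κ x := by
        have e1 : g⁻¹ * κ x * g * (g⁻¹ * κ y * g) = g⁻¹ * (κ x * κ y) * g := by group
        have e2 : g⁻¹ * κ y * g * (g⁻¹ * κ x * g) = g⁻¹ * (κ y * κ x) * g := by group
        rw [e1, e2] at h2
        exact mul_left_cancel (mul_right_cancel h2)
      have h4 : x * y = y * x := hκ (by rw [map_mul, map_mul, h3])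
      rw [← map_mul, ← map_mul, h4]
    have hle := abelian_Tg h1 (A := B.map kN) (by
      rintro _ ⟨x, -, rfl⟩
      exact hmemk _) hBab
    rw [← Nat.card_congr (B.equivMapOfInjective kN hkNi).toEquiv] at hle
    have h2 : Nat.card A ≤ Nat.card B := by
      choose y hy using hg
      refine Nat.card_le_card_of_injective (fun a : A => (⟨y a a.2, (hmB _).2 (by
        rw [hy]
        have : g⁻¹ * (g * (a : K) * g⁻¹) * g = a := by group
        rw [this]
        exact a.2)⟩ : B)) ?_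
      intro a a' h
      have h2 : y a a.2 = y a' a'.2 := congrArg Subtype.val h
      have h3 : g * (a : K) * g⁻¹ = g * (a' : K) * g⁻¹ := by rw [← hy a a.2, ← hy a' a'.2, h2]
      exact Subtype.ext (mul_left_cancel (mul_right_cancel h3))
    have h3 := hc.trans (h2.trans hle)
    norm_num at h3
  · have hA : IsPGroup 3 (Subgroup.zpowers x) := by
      apply IsPGroup.of_card (n := 2)
      rw [Nat.card_zpowers, hx]
      norm_num
    obtain ⟨g, hg⟩ := hconj _ hA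
    obtain ⟨y, hy⟩ := hg x (Subgroup.mem_zpowers x)
    have h2 : y ^ 3 = 1 := by
      have h3 : k (y ^ 3 : N) = 1 := by
        rw [Subgroup.coe_pow, map_pow]
        exact N_cube (hmemN y)
      exact Subtype.ext (hk (by rw [h3]; exact (map_one k).symm))
    have h3 : (g * x * g⁻¹) ^ 3 = 1 := by rw [← hy, ← map_pow, h2, map_one]
    rw [conj_pow] at h3
    have h4 : x ^ 3 = 1 := by
      calc x ^ 3 = g⁻¹ * (g * x ^ 3 * g⁻¹) * g := by group
        _ = 1 := by rw [h3]; group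
    have h5 := orderOf_dvd_of_pow_eq_one h4
    rw [hx] at h5
    norm_num at h5

end Cfsg.Agent.H775.Th
end

-- part: H953/SevenRows
section
/-!
# Linear, unitary and symplectic rows of `H775.Elim7.Row7` (helper953, tasks 1307-1309, S5231)

If `9 ∣ q ^ 2 - 1` there is an element of order 9 in a subgroup `SL₂(q)`; otherwise the 3-part of the order is not
`3 ^ 7`.
-/

set_option autoImplicit false

namespace Cfsg.Agent.H953.SevenRows

open Cfsg.Agent.H775.Elim7 Cfsg.Agent.H777.Elim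

/-- an element of order 9 from a subgroup `SL₂(q)` -/
theorem big7_sl {F : Type*} [Field F] [Finite F] (h3 : (3 : F) ≠ 0) (h9 : 9 ∣ Nat.card F ^ 2 - 1)
    {H : Type*} [Group H] (f : Matrix.SpecialLinearGroup (Fin 2) F →* H) (hf : Function.Injective f) :
    Big7 (H ⧸ Subgroup.center H) := by
  obtain ⟨A, -, -, a, -, ha⟩ := Cfsg.Agent.H356.SLTorus.exists_one (n := 2) h3 (by simpa only [_root_.Nat.reducePow] using h9)
    (QuotientGroup.mk' (Subgroup.center H)) (by rw [QuotientGroup.ker_mk']) f hf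
  exact Or.inr ⟨a, by simpa using ha⟩

/-! ### arithmetic -/

section Num

theorem fac_mono {a b : ℕ} (h : a ≤ b) : a.factorial.factorization 3 ≤ b.factorial.factorization 3 :=
  (Nat.factorization_le_iff_dvd (Nat.factorial_ne_zero _) (Nat.factorial_ne_zero _)).2
    (Nat.factorial_dvd_factorial h) 3

theorem fac_five : (Nat.factorial 5).factorization 3 = 1 := Cfsg.Agent.H325.RowPSU.fac_eq (by decide) (by decide)

theorem fac_six : (Nat.factorial 6).factorization 3 = 2 := Cfsg.Agent.H325.RowPSU.fac_eq (by decide) (by decide)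

theorem no7 (k : ℕ) : k + k.factorial.factorization 3 ≠ 7 := by
  intro h
  rcases le_or_gt k 5 with h5 | h5
  · have := fac_mono h5
    rw [fac_five] at this
    omega
  · have := fac_mono (show 6 ≤ k by omega)
    rw [fac_six] at this
    omega

theorem no7' {n g : ℕ} (hg : g ≤ 1) (hg' : n ≤ 5 ∨ n = 7 → g ≤ n.factorization 3)
    (h6 : n = 6 → g = 1) : n + n.factorial.factorization 3 ≠ 1 + (7 + g) := by
  intro h
  rcases le_or_gt n 5 with h5 | h5
  · have := fac_mono h5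
    rw [fac_five] at this
    omega
  · have := fac_mono (show 6 ≤ n by omega)
    rw [fac_six] at this
    have h7 : n = 7 ∨ n = 6 := by omega
    rcases h7 with rfl | rfl
    · have h8 := hg' (Or.inr rfl)
      have : (7 : ℕ).factorization 3 = 0 := Nat.factorization_eq_zero_of_not_dvd (by norm_num)
      omega
    · have := h6 rfl
      rw [fac_six] at h
      omega

/-- the 3-part is `3` -/
theorem fac_one {x : ℕ} (h3 : 3 ∣ x) (h9 : ¬ 9 ∣ x) : x.factorization 3 = 1 :=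
  Cfsg.Agent.H325.RowPSU.fac_eq (by simpa using h3) (by simpa using h9)

theorem sq_eq (q : ℕ) : q ^ 2 - 1 = (q + 1) * (q - 1) := by
  have := Nat.sq_sub_sq q 1
  rwa [one_pow] at this

theorem fac_gcd {n x : ℕ} (h3 : 3 ∣ x) (h9 : ¬ 9 ∣ x) (hn : 0 < n) :
    (Nat.gcd n x).factorization 3 = min (n.factorization 3) 1 := by
  have hx : x ≠ 0 := by rintro rfl; exact h9 (dvd_zero _)
  rw [Nat.factorization_gcd (by omega) hx, Finsupp.inf_apply, fac_one h3 h9]

theorem no7'' {n : ℕ} : n + n.factorial.factorization 3 ≠ 1 + (7 + min (n.factorization 3) 1) :=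
  no7' (by omega) (by omega) (by
    rintro rfl
    have : (6 : ℕ).factorization 3 = 1 := Cfsg.Agent.H325.RowPSU.fac_eq (by decide) (by decide)
    omega)

end Num

/-! ### the linear groups -/

/-- **the row of `PSL_n(q)`** -/
theorem row7_psl {n : ℕ} (hn : 2 ≤ n) {F : Type} [Field F] [Fintype F] (h3 : (3 : F) ≠ 0) :
    Row7 (Matrix.ProjectiveSpecialLinearGroup (Fin n) F) := by
  intro hV
  by_cases h9 : 9 ∣ Nat.card F ^ 2 - 1
  · obtain ⟨f, hf⟩ := Cfsg.Agent.H376.WordEmb.sl_two_sl (F := F) n hn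
    exact big7_sl h3 h9 f hf
  exfalso
  have hq1 : 1 < Nat.card F := Finite.one_lt_card
  have hZ : Nat.card (Subgroup.center (Matrix.SpecialLinearGroup (Fin n) F)) = Nat.gcd n (Nat.card F - 1) := by
    have : Nonempty (Fin n) := ⟨⟨0, by omega⟩⟩
    rw [Nat.card_congr (Matrix.SpecialLinearGroup.center_equiv_rootsOfUnity'
      (n := Fin n) (R := F) ⟨0, by omega⟩).toEquiv, rootsOfUnity_eq_ker,
      IsCyclic.card_powMonoidHom_ker, Nat.card_units, Fintype.card_fin, Nat.gcd_comm]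
  have hK := Cfsg.Agent.H458.Ab3.v_quot (Subgroup.center (Matrix.SpecialLinearGroup (Fin n) F))
  have hV' : (Nat.card (Matrix.SpecialLinearGroup (Fin n) F ⧸ Subgroup.center (Matrix.SpecialLinearGroup (Fin n) F))).factorization 3 = 7 :=
    Cfsg.Agent.H458.Ab3.vn_iff.1 hV
  rcases Cfsg.Agent.H458.Ab3.order_cases h3 with ⟨he, h31⟩ | ⟨he, h31⟩
  · have hS := Cfsg.Agent.H458.Ab3.vSL he one_ne_zero (n := n) (by omega)
    have h91 : ¬ 9 ∣ Nat.card F - 1 := fun h => h9 (by rw [sq_eq]; exact h.mul_left _)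
    rw [Nat.div_one, pow_one, Nat.card_units, fac_one h31 h91] at hS
    rw [hZ, fac_gcd h31 h91 (by omega), hV'] at hK
    have := no7'' (n := n)
    omega
  · have hS := Cfsg.Agent.H458.Ab3.vSL he two_ne_zero (n := n) (by omega)
    have hpq1 : ¬ 3 ∣ Nat.card F - 1 := by omega
    have hu : (Nat.card Fˣ).factorization 3 = 0 := by
      rw [Nat.card_units]
      exact Nat.factorization_eq_zero_of_not_dvd hpq1
    have hz : (Nat.card (Subgroup.center (Matrix.SpecialLinearGroup (Fin n) F))).factorization 3 = 0 := by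
      rw [hZ]
      exact Nat.factorization_eq_zero_of_not_dvd fun h => hpq1 (h.trans (Nat.gcd_dvd_right _ _))
    rw [fac_one (by rw [sq_eq]; exact h31.mul_right _) h9] at hS
    have := no7 (n / 2)
    omega

/-! ### the unitary groups -/

open Cfsg Cfsg.Agent.H494.PSURow Cfsg.Agent.LieClassical.SUBasic Cfsg.Agent.LieClassical.HermBasic in
theorem order_eq7 {F : Type*} [Field F] [Fintype F] {q : ℕ} (hF : Fintype.card F = q ^ 2) (h3 : ¬ 3 ∣ q) {n : ℕ}
    (hn : 3 ≤ n) (hV : Vn 7 (PSU n F q)) :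
    (Nat.gcd n (q + 1)).factorization 3 + ((q + 1).factorization 3 + 7) =
      (Cfsg.Agent.H325.RowPSU.pr n q).factorization 3 := by
  have h := Cfsg.Agent.S0280.result hF n (by omega)
  have hN := Cfsg.Agent.H325.RowPSU.fac_eq hV.1 hV.2
  have hN0 : Nat.card (PSU n F q) ≠ 0 := by
    intro h0
    apply hV.2
    rw [h0]
    exact dvd_zero _
  have hg0 : Nat.gcd n (q + 1) ≠ 0 := Nat.gcd_ne_zero_right (by omega)
  have hq0 : 2 ≤ q := two_le hF
  have hp0 : Cfsg.Agent.H325.RowPSU.pr n q ≠ 0 := by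
    unfold Cfsg.Agent.H325.RowPSU.pr
    refine Finset.prod_ne_zero_iff.2 fun i _ => ?_
    split_ifs
    · omega
    · have := Nat.one_lt_pow (n := i + 1) (by omega) (show 1 < q by omega)
      omega
  have h2 := congrArg (fun k : ℕ => k.factorization 3) h
  change (Nat.gcd n (q + 1) * ((q + 1) * Nat.card (PSU n F q))).factorization 3 =
    (q ^ (n * (n - 1) / 2) * Cfsg.Agent.H325.RowPSU.pr n q).factorization 3 at h2
  rw [Nat.factorization_mul hg0 (mul_ne_zero (by omega) hN0), Nat.factorization_mul (by omega) hN0,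
    Nat.factorization_mul (pow_ne_zero _ (by omega)) hp0, Nat.factorization_pow] at h2
  simp only [Finsupp.add_apply, Finsupp.smul_apply, smul_eq_mul, Nat.factorization_eq_zero_of_not_dvd h3, mul_zero,
    zero_add] at h2
  rw [hN] at h2
  exact h2

open Cfsg Cfsg.Agent.H494.PSURow Cfsg.Agent.LieClassical.SUBasic Cfsg.Agent.LieClassical.HermBasic in
/-- **the row of `PSU_n(q)`** -/
theorem row7_psu {n q : ℕ} (hn : 3 ≤ n) {F : Type} [Field F] [Fintype F] (hq : Fintype.card F = q ^ 2)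
    (h3 : (3 : F) ≠ 0) : Row7 (Cfsg.PSU n F q) := by
  intro hV
  have hq2 : 2 ≤ q := two_le hq
  have hq3 : ¬ 3 ∣ q := by
    intro h
    apply h3
    obtain ⟨ℓ, k, hℓp, hℓ, hk, -⟩ := exists_prime_pow hq
    rw [hk] at h
    have h4 := (Nat.prime_dvd_prime_iff_eq Nat.prime_three hℓp).1 (Nat.prime_three.dvd_of_dvd_pow h)
    have h5 := CharP.cast_eq_zero F ℓ
    rw [← h4] at h5
    exact_mod_cast h5
  by_cases h9 : 9 ∣ q ^ 2 - 1
  · obtain ⟨K, _, _, hK⟩ := Cfsg.Agent.S0280.exists_field hq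
    obtain ⟨e⟩ := Cfsg.Agent.S0281.result hq hK
    obtain ⟨m, rfl⟩ := Nat.exists_eq_add_of_le (show 2 ≤ n by omega)
    have h3K : (3 : K) ≠ 0 := by
      intro h
      have hc : CharP K 3 := by
        obtain ⟨p, hp⟩ := CharP.exists K
        have hpp : p.Prime := CharP.char_is_prime K p
        have h1 : p ∣ 3 := (CharP.cast_eq_zero_iff K p 3).1 (by exact_mod_cast h)
        have h2 : p = 3 := (Nat.prime_dvd_prime_iff_eq hpp Nat.prime_three).1 h1
        rwa [h2] at hp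
      obtain ⟨k, -, hk⟩ := FiniteField.card K 3
      apply hq3
      rw [← hK, hk]
      exact dvd_pow_self 3 k.ne_zero
    refine big7_sl (F := K) h3K (by rw [Nat.card_eq_fintype_card, hK]; exact h9)
      (((blk 2 m F q).comp (MonoidHom.inl _ _)).comp e.symm.toMonoidHom) ?_
    intro a b hab
    have h1 := blk_injective 2 m q hab
    exact e.symm.injective (congrArg Prod.fst h1)
  exfalso
  have heq := order_eq7 hq hq3 hn hV
  by_cases hp : 3 ∣ q + 1
  · have h91 : ¬ 9 ∣ q + 1 := fun h => h9 (by rw [sq_eq]; exact h.mul_right _)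
    rw [Cfsg.Agent.H325.RowPSU.v_plus hq2 hp, fac_gcd hp h91 (by omega), fac_one hp h91] at heq
    have := no7'' (n := n)
    omega
  · have hm : 3 ∣ q - 1 := by omega
    have h91 : ¬ 9 ∣ q - 1 := fun h => h9 (by rw [sq_eq]; exact h.mul_left _)
    rw [Cfsg.Agent.H325.RowPSU.v_minus hq2 hm, Nat.factorization_eq_zero_of_not_dvd hp,
      Nat.factorization_eq_zero_of_not_dvd (fun h => hp (h.trans (Nat.gcd_dvd_right _ _))), fac_one hm h91] at heq
    have := no7 (n / 2)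
    omega

/-! ### the symplectic groups -/

/-- **the row of `PSp_{2m}(q)`** -/
theorem row7_psp {m : ℕ} (hm : 1 ≤ m) {F : Type} [Field F] [Fintype F] (h3 : (3 : F) ≠ 0) :
    Row7 (Cfsg.PSp m F) := by
  intro hV
  by_cases h9 : 9 ∣ Nat.card F ^ 2 - 1
  · refine big7_sl h3 h9 ((Cfsg.Agent.H978.ThreeTor.blk m F).comp (MonoidHom.pi fun _ => MonoidHom.id _)) ?_
    intro a b hab
    have h1 := Cfsg.Agent.H978.ThreeTor.blk_injective hab
    exact congrFun h1 ⟨0, by omega⟩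
  exfalso
  have hq : 1 < Fintype.card F := Fintype.one_lt_card
  have hq3 := Cfsg.Agent.H978.ThreeTor.three_not_dvd h3
  have hq3' : ¬ 3 ∣ Fintype.card F := fun h => hq3 (by exact_mod_cast h)
  have hK := Cfsg.Agent.H458.Ab3.v_quot (Subgroup.center (Matrix.symplecticGroup (Fin m) F))
  have hV' : (Nat.card (Matrix.symplecticGroup (Fin m) F ⧸ Subgroup.center (Matrix.symplecticGroup (Fin m) F))).factorization 3 = 7 :=
    Cfsg.Agent.H458.Ab3.vn_iff.1 hV
  have hz : (Nat.card (Subgroup.center (Matrix.symplecticGroup (Fin m) F))).factorization 3 = 0 := by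
    rw [S0246.result (F := F) rfl m hm]
    refine Nat.factorization_eq_zero_of_not_dvd fun h => ?_
    have := Nat.le_of_dvd (by norm_num) (h.trans (Nat.gcd_dvd_left _ _))
    omega
  have hne : ∏ i ∈ Finset.range m, (Fintype.card F ^ (2 * (i + 1)) - 1) ≠ 0 := by
    rw [Finset.prod_ne_zero_iff]
    intro i _
    have : 1 < Fintype.card F ^ (2 * (i + 1)) := one_lt_pow₀ hq (by omega)
    omega
  have h31 : 3 ∣ Fintype.card F ^ 2 - 1 := by
    rw [sq_eq]
    rcases (show Fintype.card F % 3 = 1 ∨ Fintype.card F % 3 = 2 by omega) with h | h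
    · exact Dvd.dvd.mul_left (by omega) _
    · exact Dvd.dvd.mul_right (by omega) _
  rw [Nat.card_eq_fintype_card] at h9
  rw [hV', hz, S0245.result (F := F) rfl m, Nat.factorization_mul (pow_ne_zero _ (by omega)) hne, Finsupp.add_apply,
    Nat.factorization_pow, Finsupp.smul_apply, Nat.factorization_eq_zero_of_not_dvd hq3', smul_zero, zero_add,
    Cfsg.Agent.H978.ThreeTor.fact_prod hq hq3, fac_one h31 h9, mul_one] at hK
  exact no7 m (by omega)

end Cfsg.Agent.H953.SevenRows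
end

private theorem dce_a5c11010b0d2 : _root_.True := by
  try have : _root_.True := by simp only [_root_.Cfsg.Agent.H775.Th.thi.eq_1]
  try have : _root_.True := by simp only [_root_.Cfsg.Agent.H775.Th.mact.eq_1]
  try have : _root_.True := by simp only [_root_.Cfsg.Agent.H775.Th.up.eq_1]
  try have : _root_.True := by simp only [_root_.Cfsg.Agent.H775.Th.Tt.eq_1]
  try have : _root_.True := by simp only [_root_.Cfsg.Agent.H775.Th.dl.eq_1]
  exact _root_.True.intro
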